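import Cfsg.Agent.Lib.S4100.Sound

/-!
Bad modules: modules in which no nonsolvable subgroup has a nonzero fixed vector.
-/

set_option autoImplicit false

namespace Cfsg.Agent.Lib.S4100

variable {n : ℕ} {V : Type*} [AddCommGroup V]

/-- No perfect triangle quotient has a nonzero fixed vector. -/
def BadMod (ρ : Alt n →* AddMonoid.End V) : Prop :=
  ∀ (a b : Alt n) (i j k : ℕ), i.Coprime j → i.Coprime k → j.Coprime k →
    a ^ i = 1 → b ^ j = 1 → (a * b) ^ k = 1 → a ≠ 1 →
      ∀ v : V, ρ a v = v → ρ b v = v → v = 0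

def iter (f : ℕ → ℕ) (k x : ℕ) : ℕ := Nat.rec x (fun _ y => f y) k

theorem pow_apply_val {g : Alt n} (f : ℕ → ℕ)
    (hf : ∀ i : Fin n, ((g : Equiv.Perm (Fin n)) i).val = f i) (k : ℕ) (i : Fin n) :
    (((g ^ k : Alt n) : Equiv.Perm (Fin n)) i).val = iter f k i := by
  induction k with
  | zero => simp [iter]
  | succ k ih =>
    have h : iter f (k + 1) i = f (iter f k i) := rfl
    rw [pow_succ', h, ← ih, ← hf]
    rfl

def powOK (n : ℕ) (f : ℕ → ℕ) (k : ℕ) : Bool :=
  allB n (fun x => Nat.beq (iter f k x) x)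

theorem powOK_sound {g : Alt n} (hn : n ≤ 16) (f : ℕ → ℕ) (k : ℕ)
    (hf : ∀ i : Fin n, ((g : Equiv.Perm (Fin n)) i).val = f i) (h : powOK n f k = true) :
    g ^ k = 1 := by
  refine Subtype.ext (Equiv.ext fun i => Fin.ext ?_)
  rw [pow_apply_val f hf, Nat.eq_of_beq_eq_true
    (allB_sound h i.isLt)]
  simp

def relOK (n a b i j k x : ℕ) : Bool :=
  Nat.ble n 16 && (Nat.blt x n && (!(Nat.beq (app a x) x) && (Nat.beq (Nat.gcd i j) 1 &&
    (Nat.beq (Nat.gcd i k) 1 && (Nat.beq (Nat.gcd j k) 1 && (powOK n (app a) i &&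
      (powOK n (app b) j && powOK n (fun y => app a (app b y)) k)))))))

theorem zeroC_bad {ρ : Alt n →* AddMonoid.End V} (hbad : BadMod ρ) (a b i j k x : ℕ)
    (h : relOK n a b i j k x = true) : ZeroC ρ [(a, 1), (b, 1)] := by
  simp only [relOK, Bool.and_eq_true, Nat.ble_eq, Nat.blt_eq, Bool.not_eq_true'] at h
  obtain ⟨hn, hx, hne, hij, hik, hjk, hi, hj, hk⟩ := h
  intro v hv
  obtain ⟨g, hg, hgv⟩ := hv (a, 1) (by simp)
  obtain ⟨g', hg', hgv'⟩ := hv (b, 1) (by simp)
  refine hbad g g' i j k (Nat.eq_of_beq_eq_true hij) (Nat.eq_of_beq_eq_true hik)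
    (Nat.eq_of_beq_eq_true hjk) (powOK_sound hn _ _ hg hi) (powOK_sound hn _ _ hg' hj)
    (powOK_sound hn _ _ (hg.comp hg') hk) ?_ v (by simpa using hgv) (by simpa using hgv')
  rintro rfl
  have h1 := hg ⟨x, hx⟩
  simp only [OneMemClass.coe_one, Equiv.Perm.one_apply] at h1
  rw [← h1] at hne
  simp at hne

def conjOKl (n s : ℕ) (l : List (ℕ × ℕ)) : List (ℕ × ℕ) → Bool :=
  List.rec (fun l' => List.rec true (fun _ _ _ => false) l')
    (fun cz _ ih l' => List.rec false (fun cz' rest _ =>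
      Nat.beq cz.2 cz'.2 &&
        (allD n (fun x => Nat.blt (app cz.1 x) n &&
          Nat.beq (app cz'.1 (app s x)) (app s (app cz.1 x))) 4 0 && ih rest)) l') l

theorem conjOKl_sound {s : ℕ} (hn : n ≤ 16) :
    ∀ (l l' : List (ℕ × ℕ)), conjOKl n s l l' = true → ∀ cz ∈ l, ∃ cz' ∈ l', cz.2 = cz'.2 ∧
      ∀ x : Fin n, app cz.1 x < n ∧ app cz'.1 (app s x) = app s (app cz.1 x) := by
  intro l
  induction l with
  | nil => simp
  | cons a l ih =>
    intro l' h cz hcz
    cases l' with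
    | nil => simp [conjOKl] at h
    | cons a' l' =>
      simp only [conjOKl, Bool.and_eq_true] at h
      obtain ⟨h1, h2, h3⟩ := h
      rcases List.mem_cons.1 hcz with rfl | hcz
      · refine ⟨a', List.mem_cons_self .., Nat.eq_of_beq_eq_true h1, fun x => ?_⟩
        have h4 := allD_sound n _ 4 0 h2 x.val (Nat.zero_le _)
          (by have := x.isLt; norm_num; omega) x.isLt
        simp only [Bool.and_eq_true, Nat.blt_eq] at h4
        exact ⟨h4.1, Nat.eq_of_beq_eq_true h4.2⟩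
      · obtain ⟨b, hb, hb'⟩ := ih l' h3 cz hcz
        exact ⟨b, List.mem_cons_of_mem _ hb, hb'⟩

def permOK (n s si : ℕ) : Bool :=
  Nat.ble n 16 && allD n (fun x => Nat.blt (app s x) n && (Nat.blt (app si x) n &&
    (Nat.beq (app si (app s x)) x && Nat.beq (app s (app si x)) x))) 4 0

/-- Conjugation by a permutation, as an endomorphism of the alternating group. -/
def conjHom (σ : Equiv.Perm (Fin n)) : Alt n →* Alt n where
  toFun g := ⟨σ * g * σ⁻¹, by
    rw [Equiv.Perm.mem_alternatingGroup, map_mul, map_mul, map_inv,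
      Equiv.Perm.mem_alternatingGroup.1 g.2]
    simp⟩
  map_one' := by ext; simp
  map_mul' g g' := by ext; simp

theorem conjHom_injective (σ : Equiv.Perm (Fin n)) : Function.Injective (conjHom σ) := by
  intro g g' h
  refine Subtype.ext ?_
  simpa [conjHom] using congrArg Subtype.val h

theorem zeroC_conj {ρ : Alt n →* AddMonoid.End V} (hbad : BadMod ρ) {l l' : List (ℕ × ℕ)}
    (h : ∀ ρ' : Alt n →* AddMonoid.End V, BadMod ρ' → ZeroC ρ' l) (s si : ℕ)
    (hs : permOK n s si = true) (hl : conjOKl n s l l' = true) : ZeroC ρ l' := by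
  simp only [permOK, Bool.and_eq_true, Nat.ble_eq] at hs
  obtain ⟨hn, hs⟩ := hs
  have hx : ∀ x : Fin n, app s x < n ∧ app si x < n ∧ app si (app s x) = x ∧
      app s (app si x) = x := by
    intro x
    have h2 := allD_sound n _ 4 0 hs x.val (Nat.zero_le _)
      (by have := x.isLt; norm_num; omega) x.isLt
    simp only [Bool.and_eq_true, Nat.blt_eq] at h2
    exact ⟨h2.1, h2.2.1, Nat.eq_of_beq_eq_true h2.2.2.1, Nat.eq_of_beq_eq_true h2.2.2.2⟩
  let σ : Equiv.Perm (Fin n) :=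
    { toFun := fun x => ⟨app s x, (hx x).1⟩
      invFun := fun x => ⟨app si x, (hx x).2.1⟩
      left_inv := fun x => Fin.ext (hx x).2.2.1
      right_inv := fun x => Fin.ext (hx x).2.2.2 }
  have hbad' : BadMod (ρ.comp (conjHom σ)) := by
    intro a b i j k h1 h2 h3 ha hb hab hne v hav hbv
    refine hbad (conjHom σ a) (conjHom σ b) i j k h1 h2 h3 (by rw [← map_pow, ha, map_one])
      (by rw [← map_pow, hb, map_one]) (by rw [← map_mul, ← map_pow, hab, map_one]) ?_ v hav hbv
    intro he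
    exact hne (conjHom_injective σ (by rw [he, map_one]))
  intro v hv
  refine h _ hbad' v fun cz hcz => ?_
  obtain ⟨cz', hcz', hz, hc⟩ := conjOKl_sound hn l l' hl cz hcz
  obtain ⟨g', hg', hgv⟩ := hv cz' hcz'
  have hmem : σ⁻¹ * (g' : Equiv.Perm (Fin n)) * σ ∈ alternatingGroup (Fin n) := by
    rw [Equiv.Perm.mem_alternatingGroup, map_mul, map_mul, map_inv,
      Equiv.Perm.mem_alternatingGroup.1 g'.2]
    simp
  refine ⟨⟨_, hmem⟩, fun x => ?_, ?_⟩
  · have h1 : ((g' : Equiv.Perm (Fin n)) (σ x)).val = app s (app cz.1 x) := by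
      rw [hg' (σ x)]
      exact (hc x).2
    have h2 : ((σ⁻¹ * (g' : Equiv.Perm (Fin n)) * σ) x).val =
        app si ((g' : Equiv.Perm (Fin n)) (σ x)).val := rfl
    rw [h2, h1]
    exact (hx ⟨_, (hc x).1⟩).2.2.1
  · have : conjHom σ ⟨_, hmem⟩ = g' := by
      refine Subtype.ext ?_
      simp [conjHom, mul_assoc]
    show ρ (conjHom σ ⟨_, hmem⟩) v = _
    rw [this, hgv, hz]

/-- A product of an even number of transpositions. -/
theorem exists_rep (l : List (Fin n × Fin n)) (hl : ∀ ab ∈ l, ab.1 ≠ ab.2)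
    (he : Even l.length) (c : ℕ)
    (hc : ∀ i : Fin n, ((l.map fun ab => Equiv.swap ab.1 ab.2).prod i).val = app c i) :
    ∃ g : Alt n, Rep c g := by
  refine ⟨⟨(l.map fun ab : Fin n × Fin n => Equiv.swap ab.1 ab.2).prod, ?_⟩, hc⟩
  have h : ∀ l : List (Fin n × Fin n), (∀ ab ∈ l, ab.1 ≠ ab.2) →
      Equiv.Perm.sign (l.map fun ab => Equiv.swap ab.1 ab.2).prod = (-1) ^ l.length := by
    intro l
    induction l with
    | nil => simp
    | cons a l ih =>
      intro h
      rw [List.map_cons, List.prod_cons, map_mul, Equiv.Perm.sign_swap (h a (List.mem_cons_self ..)),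
        ih (fun ab hab => h ab (List.mem_cons_of_mem _ hab)), List.length_cons, pow_succ']
  rw [Equiv.Perm.mem_alternatingGroup, h l hl]
  exact he.neg_one_pow

end Cfsg.Agent.Lib.S4100
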