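import Mathlib.GroupTheory.SpecificGroups.Alternating
import Mathlib.Algebra.BigOperators.Group.Finset.Basic
import Mathlib.Algebra.Group.Hom.Instances
import Mathlib.Algebra.Module.NatInt
import Mathlib.Tactic

/-!
Certificates for "this monomial eigenvector must vanish" in modules of alternating groups.

Permutations of `Fin n` (`n ≤ 16`) are coded in base 16; tables are packed in natural numbers.
-/

set_option autoImplicit false

namespace Cfsg.Agent.Lib.S4100

theorem op_add (a b : ℕ) : Nat.add a b = a + b := rfl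

theorem op_mul (a b : ℕ) : Nat.mul a b = a * b := rfl

theorem op_div (a b : ℕ) : Nat.div a b = a / b := rfl

theorem op_mod (a b : ℕ) : Nat.mod a b = a % b := rfl

theorem op_shiftRight (a b : ℕ) : Nat.shiftRight a b = a >>> b := rfl

/-! ### Bounded universal check, by bisection -/

def allD (N : ℕ) (f : ℕ → Bool) (k : ℕ) : ℕ → Bool :=
  Nat.rec (fun off => Nat.ble N off || f off)
    (fun k ih off => ih off && ih (Nat.add off (Nat.pow 2 k))) k

theorem allD_sound (N : ℕ) (f : ℕ → Bool) :
    ∀ k off, allD N f k off = true → ∀ i, off ≤ i → i < off + 2 ^ k → i < N → f i = true := by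
  intro k
  induction k with
  | zero =>
    intro off h i h1 h2 h3
    have : i = off := by simp at h2; omega
    subst this
    simp [allD] at h
    rcases h with h | h
    · omega
    · exact h
  | succ k ih =>
    intro off h i h1 h2 h3
    simp only [allD, Bool.and_eq_true] at h
    change _ ∧ allD N f k (off + 2 ^ k) = true at h
    by_cases hc : i < off + 2 ^ k
    · exact ih off h.1 i h1 hc h3
    · exact ih (off + 2 ^ k) h.2 i (by omega) (by rw [pow_succ] at h2; omega) h3

def allN (N : ℕ) (f : ℕ → Bool) : Bool := Nat.ble N 8192 && allD N f 13 0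

theorem allN_sound {N : ℕ} {f : ℕ → Bool} (h : allN N f = true) {i : ℕ} (hi : i < N) :
    f i = true := by
  simp only [allN, Bool.and_eq_true, Nat.ble_eq] at h
  exact allD_sound N f 13 0 h.2 i (Nat.zero_le _) (by norm_num; omega) hi

/-- Linear bounded check, for tiny bounds. -/
def allB (n : ℕ) (f : ℕ → Bool) : Bool := Nat.rec true (fun k ih => f k && ih) n

theorem allB_sound {n : ℕ} {f : ℕ → Bool} (h : allB n f = true) {i : ℕ} (hi : i < n) :
    f i = true := by
  induction n with
  | zero => omega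
  | succ n ih =>
    simp only [allB, Bool.and_eq_true] at h
    rcases eq_or_lt_of_le (Nat.lt_succ_iff.1 hi) with rfl | hlt
    · exact h.1
    · exact ih h.2 hlt

/-! ### Codes -/

/-- Value at `k` of the permutation with the given code. -/
def app (c k : ℕ) : ℕ := Nat.land (Nat.shiftRight c (Nat.mul 4 k)) 15

/-- Sixteen-bit field. -/
def fld (T i : ℕ) : ℕ := Nat.land (Nat.shiftRight T (Nat.mul 16 i)) 65535

/-- Forty-bit field. -/
def code (R i : ℕ) : ℕ := Nat.land (Nat.shiftRight R (Nat.mul 40 i)) 1099511627775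

abbrev Alt (n : ℕ) := alternatingGroup (Fin n)

def Rep {n : ℕ} (c : ℕ) (g : Alt n) : Prop := ∀ i : Fin n, ((g : Equiv.Perm (Fin n)) i).val = app c i

/-- `a ∘ b = c ∘ d` on the points below `n`. -/
def compOK (n a b c d : ℕ) : Bool :=
  allB n (fun k => Nat.beq (app a (app b k)) (app c (app d k)))

theorem Rep.unique {n c : ℕ} {g h : Alt n} (hg : Rep c g) (hh : Rep c h) : g = h :=
  Subtype.ext (Equiv.ext fun i => Fin.ext (by rw [hg i, hh i]))

theorem Rep.comp {n a b : ℕ} {g h : Alt n} (hg : Rep a g) (hh : Rep b h) (i : Fin n) :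
    (((g * h : Alt n) : Equiv.Perm (Fin n)) i).val = app a (app b i) := by
  simp only [Subgroup.coe_mul, Equiv.Perm.mul_apply]
  rw [hg, hh]

theorem compOK_sound {n a b c d : ℕ} {g r r' l : Alt n} (hn : n ≤ 16)
    (hg : Rep a g) (hr : Rep b r) (hr' : Rep c r') (hl : Rep d l)
    (h : compOK n a b c d = true) : g * r = r' * l := by
  refine Subtype.ext (Equiv.ext fun i => Fin.ext ?_)
  rw [hg.comp hr, hr'.comp hl]
  exact Nat.eq_of_beq_eq_true
    (allB_sound h i.isLt)

/-- `a = b ∘ d` on the points below `n`. -/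
def isComp (n a b d : ℕ) : Bool :=
  allB n (fun k => Nat.beq (app a k) (app b (app d k)))

theorem isComp_sound {n a b d : ℕ} {r l : Alt n} (hn : n ≤ 16) (hr : Rep b r) (hl : Rep d l)
    (h : isComp n a b d = true) : Rep a (r * l) := by
  intro i
  rw [hr.comp hl]
  exact (Nat.eq_of_beq_eq_true
    (allB_sound h i.isLt)).symm

/-- The identity code. -/
def isId (n a : ℕ) : Bool := allB n (fun k => Nat.beq (app a k) k)

theorem isId_sound {n a : ℕ} (hn : n ≤ 16) (h : isId n a = true) : Rep a (1 : Alt n) := by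
  intro i
  simpa using (Nat.eq_of_beq_eq_true
    (allB_sound h i.isLt)).symm

/-! ### Zero pairs -/

variable {n : ℕ} {V : Type*} [AddCommGroup V]

/-- No nonzero common eigenvector for the coded elements with the given eigenvalues. -/
def ZeroC (ρ : Alt n →* AddMonoid.End V) (l : List (ℕ × ℕ)) : Prop :=
  ∀ v : V, (∀ cz ∈ l, ∃ g : Alt n, Rep cz.1 g ∧ ρ g v = cz.2 • v) → v = 0

/-! ### Lists of weighted indices -/

/-- `e` stands for the weight `e % 8` at the index `e / 8`. -/
def ev (w : ℕ → V) (u : List ℕ) : V := (u.map fun e => (e % 8) • w (e / 8)).sum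

def mapT (p T : ℕ) (u : List ℕ) : List ℕ :=
  u.map fun e => (fun f => Nat.add (Nat.mul (Nat.div f 8) 8)
    (Nat.mod (Nat.mul (Nat.mod e 8) (Nat.mod f 8)) p)) (fld T (Nat.div e 8))

def scl (p z : ℕ) (u : List ℕ) : List ℕ :=
  u.map fun e => Nat.add (Nat.mul (Nat.div e 8) 8) (Nat.mod (Nat.mul (Nat.mod e 8) z) p)

theorem mapT_def (p T : ℕ) (u : List ℕ) : mapT p T u =
    u.map fun e => fld T (e / 8) / 8 * 8 + e % 8 * (fld T (e / 8) % 8) % p := rfl

theorem scl_def (p z : ℕ) (u : List ℕ) :
    scl p z u = u.map fun e => e / 8 * 8 + e % 8 * z % p := rfl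

def addTo (u : List ℕ) (X : ℕ) : ℕ :=
  List.rec X (fun e _ ih => Nat.add ih (Nat.shiftLeft (Nat.mod e 8) (Nat.mul 24 (Nat.div e 8)))) u

def idxOK (N : ℕ) (u : List ℕ) : Bool :=
  List.rec true (fun e _ ih => Nat.blt (Nat.div e 8) N && ih) u

theorem idxOK_sound {N : ℕ} {u : List ℕ} (h : idxOK N u = true) : ∀ e ∈ u, e / 8 < N := by
  induction u with
  | nil => simp
  | cons a u ih =>
    simp only [idxOK, Bool.and_eq_true, Nat.blt_eq] at h
    intro e he
    rcases List.mem_cons.1 he with rfl | he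
    · exact h.1
    · exact ih h.2 e he

/-- Total weight at an index. -/
def wt (u : List ℕ) (i : ℕ) : ℕ := (u.map fun e => if e / 8 = i then e % 8 else 0).sum

theorem wt_le (u : List ℕ) (i : ℕ) : wt u i ≤ u.length * 7 := by
  induction u with
  | nil => simp [wt]
  | cons a u ih =>
    simp only [wt, List.map_cons, List.sum_cons, List.length_cons]
    simp only [wt] at ih
    split <;> omega

theorem wt_append (u v : List ℕ) (i : ℕ) : wt (u ++ v) i = wt u i + wt v i := by
  simp [wt]

theorem addTo_eq (N : ℕ) (u : List ℕ) (hu : ∀ e ∈ u, e / 8 < N) (X : ℕ) :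
    addTo u X = X + ∑ i ∈ Finset.range N, wt u i * 2 ^ (24 * i) := by
  induction u with
  | nil => simp [addTo, wt]
  | cons a u ih =>
    have h1 : addTo (a :: u) X = addTo u X + ((a % 8) <<< (24 * (a / 8))) := rfl
    rw [h1, ih (fun e he => hu e (List.mem_cons_of_mem _ he))]
    have h2 : ∀ i, wt (a :: u) i = (if a / 8 = i then a % 8 else 0) + wt u i := fun i => by
      simp [wt]
    simp only [h2, add_mul, Finset.sum_add_distrib]
    have h3 : ∑ i ∈ Finset.range N, (if a / 8 = i then a % 8 else 0) * 2 ^ (24 * i)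
        = (a % 8) * 2 ^ (24 * (a / 8)) := by
      rw [Finset.sum_eq_single (a / 8)]
      · simp
      · intro b _ hb; simp [Ne.symm hb]
      · intro hb; exact absurd (Finset.mem_range.2 (hu a (List.mem_cons_self ..))) hb
    rw [h3, Nat.shiftLeft_eq]
    omega

theorem digit_eq (B : ℕ) (hB : 0 < B) :
    ∀ (N : ℕ) (F : ℕ → ℕ), (∀ i, F i < B) →
      ∀ i, i < N → (∑ j ∈ Finset.range N, F j * B ^ j) / B ^ i % B = F i := by
  intro N
  induction N with
  | zero => intro F _ i hi; omega
  | succ N ih =>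
    intro F hF i hi
    have hsum : ∑ j ∈ Finset.range (N + 1), F j * B ^ j
        = F 0 + B * ∑ j ∈ Finset.range N, F (j + 1) * B ^ j := by
      rw [Finset.sum_range_succ', Finset.mul_sum, add_comm]
      simp only [pow_zero, mul_one, add_right_inj]
      exact Finset.sum_congr rfl fun j _ => by ring
    rw [hsum]
    cases i with
    | zero =>
      simp only [pow_zero, Nat.div_one, Nat.add_mul_mod_self_left]
      exact Nat.mod_eq_of_lt (hF 0)
    | succ i =>
      rw [pow_succ', ← Nat.div_div_eq_div_mul, Nat.add_mul_div_left _ _ hB,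
        Nat.div_eq_of_lt (hF 0), zero_add]
      exact ih (fun j => F (j + 1)) (fun j => hF _) i (by omega)

def digit (X i : ℕ) : ℕ := Nat.land (Nat.shiftRight X (Nat.mul 24 i)) 16777215

theorem digit_addTo {N : ℕ} {u : List ℕ} (hu : ∀ e ∈ u, e / 8 < N)
    (hlen : u.length < 2000000) {i : ℕ} (hi : i < N) : digit (addTo u 0) i = wt u i := by
  have hF : ∀ j, wt u j < 2 ^ 24 := fun j => by
    have := wt_le u j
    norm_num
    omega
  rw [show digit (addTo u 0) i = (addTo u 0 >>> (24 * i)) &&& 16777215 from rfl, addTo_eq N u hu, zero_add, Nat.shiftRight_eq_div_pow,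
    show (16777215 : ℕ) = 2 ^ 24 - 1 by norm_num, Nat.and_two_pow_sub_one_eq_mod]
  simp only [pow_mul]
  exact digit_eq (2 ^ 24) (by norm_num) N (wt u) hF i hi

theorem ev_eq_sum (w : ℕ → V) (N : ℕ) (u : List ℕ) (hu : ∀ e ∈ u, e / 8 < N) :
    ev w u = ∑ i ∈ Finset.range N, wt u i • w i := by
  induction u with
  | nil => simp [ev, wt]
  | cons a u ih =>
    have h2 : ∀ i, wt (a :: u) i = (if a / 8 = i then a % 8 else 0) + wt u i := fun i => by
      simp [wt]
    simp only [h2, add_smul, Finset.sum_add_distrib]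
    rw [← ih (fun e he => hu e (List.mem_cons_of_mem _ he)), Finset.sum_eq_single (a / 8)]
    · simp [ev]
    · intro b _ hb; simp [Ne.symm hb]
    · intro hb; exact absurd (Finset.mem_range.2 (hu a (List.mem_cons_self ..))) hb

theorem mod_smul' {p : ℕ} (hp : ∀ v : V, p • v = 0) (a : ℕ) (v : V) : (a % p) • v = a • v := by
  conv_rhs => rw [← Nat.mod_add_div a p, add_smul, mul_comm, mul_smul, hp, smul_zero, add_zero]

theorem ev_append (w : ℕ → V) (u v : List ℕ) : ev w (u ++ v) = ev w u + ev w v := by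
  simp [ev]

theorem ev_scl {p : ℕ} (h8 : p ≤ 8) (hp0 : 0 < p) (hp : ∀ v : V, p • v = 0) (w : ℕ → V) (z : ℕ)
    (u : List ℕ) : ev w (scl p z u) = z • ev w u := by
  induction u with
  | nil => simp [ev, scl]
  | cons a u ih =>
    have h1 : scl p z (a :: u) = (a / 8 * 8 + a % 8 * z % p) :: scl p z u := rfl
    rw [h1]
    have hlt : a % 8 * z % p < 8 := lt_of_lt_of_le (Nat.mod_lt _ hp0) h8
    simp only [ev, List.map_cons, List.sum_cons, smul_add]
    simp only [ev] at ih
    rw [ih, Nat.add_mod, Nat.mul_mod_left, zero_add, Nat.mod_mod, Nat.mod_eq_of_lt hlt,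
      show (a / 8 * 8 + a % 8 * z % p) / 8 = a / 8 by omega, mod_smul' hp, mul_comm (a % 8) z,
      mul_smul]

/-- `T` is the table of `g`. -/
def GoodTab (ρ : Alt n →* AddMonoid.End V) (w : ℕ → V) (N T : ℕ) (g : Alt n) : Prop :=
  ∀ i, i < N → fld T i / 8 < N ∧ ρ g (w i) = (fld T i % 8) • w (fld T i / 8)

theorem mapT_idx {ρ : Alt n →* AddMonoid.End V} {w : ℕ → V} {N T p : ℕ} {g : Alt n}
    (h8 : p ≤ 8) (hp0 : 0 < p) (hT : GoodTab ρ w N T g) {u : List ℕ}
    (hu : ∀ e ∈ u, e / 8 < N) : ∀ e ∈ mapT p T u, e / 8 < N := by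
  intro e he
  simp only [mapT_def, List.mem_map] at he
  obtain ⟨a, ha, rfl⟩ := he
  have hlt : a % 8 * (fld T (a / 8) % 8) % p < 8 := lt_of_lt_of_le (Nat.mod_lt _ hp0) h8
  have := (hT _ (hu a ha)).1
  omega

theorem ev_mapT {ρ : Alt n →* AddMonoid.End V} {w : ℕ → V} {N T p : ℕ} {g : Alt n}
    (h8 : p ≤ 8) (hp0 : 0 < p) (hp : ∀ v : V, p • v = 0) (hT : GoodTab ρ w N T g) {u : List ℕ}
    (hu : ∀ e ∈ u, e / 8 < N) : ev w (mapT p T u) = ρ g (ev w u) := by
  induction u with
  | nil => simp [ev, mapT]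
  | cons a u ih =>
    obtain ⟨_, hact⟩ := hT _ (hu a (List.mem_cons_self ..))
    have hlt : a % 8 * (fld T (a / 8) % 8) % p < 8 := lt_of_lt_of_le (Nat.mod_lt _ hp0) h8
    have h1 : mapT p T (a :: u) =
        (fld T (a / 8) / 8 * 8 + a % 8 * (fld T (a / 8) % 8) % p) :: mapT p T u := rfl
    rw [h1]
    simp only [ev, List.map_cons, List.sum_cons, map_add, map_nsmul]
    have ih' := ih fun e he => hu e (List.mem_cons_of_mem _ he)
    simp only [ev] at ih'
    rw [ih', hact, Nat.add_mod, Nat.mul_mod_left, zero_add, Nat.mod_mod, Nat.mod_eq_of_lt hlt,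
      show (fld T (a / 8) / 8 * 8 + a % 8 * (fld T (a / 8) % 8) % p) / 8 = fld T (a / 8) / 8
        by omega, mod_smul' hp, mul_smul]

end Cfsg.Agent.Lib.S4100
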