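import Cfsg.Agent.Lib.S4100.Cert

/-!
A checkable certificate that a monomial eigenvector is zero, given that certain common
eigenvectors are zero.
-/

set_option autoImplicit false

namespace Cfsg.Agent.Lib.S4100

structure Tab where
  g : ℕ
  z : ℕ
  T : ℕ
  LI : ℕ

structure Grp where
  tabs : List Tab
  orbs : List (ℕ × ℕ)

structure Sat where
  tabs : List (Tab × List ℕ)
  vec : ℕ × ℕ

structure Cert where
  n : ℕ
  p : ℕ
  N : ℕ
  nl : ℕ
  Lc : ℕ
  Lp : ℕ
  Lam : ℕ
  lg : List (ℕ × ℕ)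
  R : ℕ
  Par : ℕ
  amb : List Tab
  H0 : ℕ
  Hs : List (ℕ × ℕ)
  grps : List Grp
  sats : List Sat
  fin : List ℕ
  /-- Translates of orbit vectors, again of value zero. -/
  moved : List (ℕ × ℕ × ℕ × ℕ) := []

def getL {α : Type} (d : α) (l : List α) : ℕ → α :=
  List.rec (fun _ => d) (fun a _ ih k => Nat.rec a (fun k' _ => ih k') k) l

theorem getL_mem {α : Type} (d : α) (l : List α) :
    ∀ k, k < l.length → getL d l k ∈ l := by
  induction l with
  | nil => intro k hk; simp at hk
  | cons a l ih =>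
    intro k hk
    cases k with
    | zero => exact List.mem_cons_self ..
    | succ k => exact List.mem_cons_of_mem _ (ih k (by simpa using hk))

def allL {α : Type} (f : α → Bool) (l : List α) : Bool :=
  List.rec true (fun a _ ih => f a && ih) l

theorem allL_sound {α : Type} {f : α → Bool} {l : List α} (h : allL f l = true) :
    ∀ a ∈ l, f a = true := by
  induction l with
  | nil => simp
  | cons a l ih =>
    simp only [allL, Bool.and_eq_true] at h
    intro b hb
    rcases List.mem_cons.1 hb with rfl | hb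
    · exact h.1
    · exact ih h.2 b hb

def unp (o : ℕ × ℕ) : List ℕ := Nat.rec [] (fun k ih => fld o.1 k :: ih) o.2

def chkHead (C : Cert) : Bool :=
  Nat.ble C.n 16 && (Nat.ble C.p 8 && (Nat.blt 1 C.p && (Nat.blt 0 C.N && (Nat.blt 0 C.nl &&
    (Nat.ble C.nl 8192 && (isId C.n (code C.R 0) && (isId C.n (code C.Lc 0) &&
      Nat.beq (fld C.Lam 0) 1)))))))

def chkL (C : Cert) : Bool :=
  allN C.nl fun j => Nat.beq j 0 || (fun e => (fun q k => Nat.blt q j && (Nat.blt k C.lg.length &&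
    ((fun gz => isComp C.n (code C.Lc j) gz.1 (code C.Lc q) &&
      Nat.beq (fld C.Lam j) (Nat.mod (Nat.mul gz.2 (fld C.Lam q)) C.p)) (getL (0, 0) C.lg k))))
    (Nat.div e 8) (Nat.mod e 8)) (fld C.Lp j)

def chkR (C : Cert) : Bool :=
  allN C.N fun i => Nat.beq i 0 || (fun e => (fun q k => Nat.blt q i && (Nat.blt k C.amb.length &&
    isComp C.n (code C.R i) (getL ⟨0, 0, 0, 0⟩ C.amb k).g (code C.R q)))
    (Nat.div e 8) (Nat.mod e 8)) (fld C.Par i)

def chkTab (C : Cert) (t : Tab) : Bool :=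
  isComp C.n t.g (code C.R (Nat.div (fld t.T 0) 8)) (code C.Lc (fld t.LI 0)) &&
    allN C.N fun i => (fun e li => Nat.blt (Nat.div e 8) C.N && (Nat.blt li C.nl &&
      (compOK C.n t.g (code C.R i) (code C.R (Nat.div e 8)) (code C.Lc li) &&
        Nat.beq (fld C.Lam li) (Nat.mod e 8)))) (fld t.T i) (fld t.LI i)

/-- Checks a composition table. -/
def chkComp (C : Cert) (T S S' : ℕ) : Bool :=
  allN C.N fun i => (fun f => (fun e => Nat.beq (fld S' i)
    (Nat.add (Nat.mul (Nat.div e 8) 8) (Nat.mod (Nat.mul (Nat.mod f 8) (Nat.mod e 8)) C.p)))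
    (fld T (Nat.div f 8))) (fld S i)

def chkChain (C : Cert) (Hs : List (ℕ × ℕ)) : ℕ → Bool :=
  List.rec (fun _ => true)
    (fun hk _ ih prev => Nat.blt hk.2 C.amb.length &&
      (chkComp C (getL ⟨0, 0, 0, 0⟩ C.amb hk.2).T prev hk.1 && ih hk.1)) Hs

def chkH (C : Cert) : Bool :=
  allN C.N (fun i => Nat.beq (fld C.H0 i) (Nat.add (Nat.mul i 8) 1)) && chkChain C C.Hs C.H0

def hList (C : Cert) : List ℕ := C.H0 :: C.Hs.map Prod.fst

def chkOrb (C : Cert) (G : Grp) (o : ℕ × ℕ) : Bool :=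
  (fun u => idxOK C.N u && (Nat.blt u.length 2000000 && allL (fun t =>
    Nat.beq (addTo (mapT C.p t.T u) 0) (addTo (scl C.p t.z u) 0)) G.tabs)) (unp o)

def chkGrps (C : Cert) : Bool := allL (fun G => allL (chkOrb C G) G.orbs) C.grps

/-- Translates of one vector. -/
def accH (p : ℕ) (u : List ℕ) (Hs : List ℕ) : ℕ → ℕ → ℕ :=
  List.rec (fun _ X => X)
    (fun h _ ih c X => ih (Nat.shiftRight c 4)
      (bif Nat.beq (Nat.land c 15) 0 then X else addTo (mapT p h (scl p (Nat.land c 15) u)) X)) Hs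

def cntH (u : List ℕ) (Hs : List ℕ) : ℕ := Nat.mul u.length Hs.length

def accZ (p : ℕ) (Hs : List ℕ) (Z : List (ℕ × ℕ)) : List ℕ → ℕ → ℕ :=
  List.rec (fun _ X => X)
    (fun o _ ih cs X => List.rec X
      (fun c rest _ => ih rest (bif Nat.beq c 0 then X else accH p (unp o) Hs c X)) cs) Z

def cntZ (Hs : List ℕ) (Z : List (ℕ × ℕ)) : List ℕ → ℕ :=
  List.rec (fun _ => 0)
    (fun o _ ih cs => List.rec 0
      (fun c rest _ => Nat.add (bif Nat.beq c 0 then 0 else cntH (unp o) Hs) (ih rest)) cs) Z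

def zeroMod (p N X : ℕ) : Bool := allN N fun i => Nat.beq (Nat.mod (digit X i) p) 0

def chkSatTab (C : Cert) (Z : List (ℕ × ℕ)) (o : ℕ × ℕ) (tc : Tab × List ℕ) : Bool :=
  (fun u => idxOK C.N u && (Nat.blt (u.length + u.length + cntZ (hList C) Z tc.2) 2000000 &&
    zeroMod C.p C.N (accZ C.p (hList C) Z tc.2
      (addTo (mapT C.p tc.1.T u) (addTo (scl C.p (C.p - tc.1.z % C.p) u) 0))))) (unp o)

def chkSats (C : Cert) : List Sat → List (ℕ × ℕ) → Bool :=
  fun ss => List.rec (fun _ => true)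
    (fun s _ ih Z => idxOK C.N (unp s.vec) &&
      (allL (chkSatTab C Z s.vec) s.tabs && ih (Z ++ [s.vec]))) ss

def baseZ (C : Cert) : List (ℕ × ℕ) := C.grps.flatMap Grp.orbs

def movZ (C : Cert) : List (ℕ × ℕ) := C.moved.map fun q => q.2.2

def chkMov (C : Cert) : Bool :=
  allL (fun q => Nat.blt q.1 (hList C).length && (Nat.blt q.2.1 (baseZ C).length &&
    (fun u v => idxOK C.N v && (Nat.blt u.length 2000000 && (Nat.blt v.length 2000000 &&
      Nat.beq (addTo u 0) (addTo v 0))))
    (mapT C.p (getL 0 (hList C) q.1) (unp (getL (0, 0) (baseZ C) q.2.1))) (unp q.2.2))) C.moved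

def allZ (C : Cert) : List (ℕ × ℕ) := (baseZ C ++ movZ C) ++ C.sats.map Sat.vec

def chkFin (C : Cert) : Bool :=
  Nat.blt (1 + cntZ (hList C) (allZ C) C.fin) 2000000 &&
    zeroMod C.p C.N (accZ C.p (hList C) (allZ C) C.fin (addTo [C.p - 1] 0))

structure Cert.Ok (C : Cert) : Prop where
  head : chkHead C = true
  lT : chkL C = true
  rT : chkR C = true
  ambT : allL (chkTab C) C.amb = true
  grpT : allL (fun G => allL (chkTab C) G.tabs) C.grps = true
  satT : allL (fun s => allL (fun tc => chkTab C tc.1) s.tabs) C.sats = true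
  hT : chkH C = true
  orbT : chkGrps C = true
  movC : chkMov C = true
  satC : chkSats C C.sats (baseZ C ++ movZ C) = true
  finC : chkFin C = true

theorem addTo_append (u v : List ℕ) (X : ℕ) : addTo (u ++ v) X = addTo u (addTo v X) := by
  induction u with
  | nil => rfl
  | cons a u ih =>
    show addTo (u ++ v) X + _ = addTo u (addTo v X) + _
    rw [ih]

section
variable {n : ℕ} {V : Type*} [AddCommGroup V]

/-- `X` is the packed sum of a list of at most `k` entries of weighted value `val`. -/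
def Packs (w : ℕ → V) (N X k : ℕ) (val : V) : Prop :=
  ∃ L : List ℕ, (∀ e ∈ L, e / 8 < N) ∧ L.length ≤ k ∧ X = addTo L 0 ∧ ev w L = val

theorem Packs.add {w : ℕ → V} {N X k : ℕ} {val : V} (h : Packs w N X k val) {u : List ℕ}
    (hu : ∀ e ∈ u, e / 8 < N) : Packs w N (addTo u X) (u.length + k) (ev w u + val) := by
  obtain ⟨L, h1, h2, h3, h4⟩ := h
  refine ⟨u ++ L, ?_, by simp; omega, by rw [addTo_append, h3], by rw [ev_append, h4]⟩
  intro e he
  rcases List.mem_append.1 he with he | he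
  · exact hu e he
  · exact h1 e he

theorem Packs.mono {w : ℕ → V} {N X k k' : ℕ} {val : V} (h : Packs w N X k val) (hk : k ≤ k') :
    Packs w N X k' val := by
  obtain ⟨L, h1, h2, h3, h4⟩ := h
  exact ⟨L, h1, h2.trans hk, h3, h4⟩

theorem Packs.zero_of_zeroMod {w : ℕ → V} {p N X k : ℕ} {val : V}
    (hp : ∀ v : V, p • v = 0) (h : Packs w N X k val) (hk : k < 2000000)
    (hz : zeroMod p N X = true) : val = 0 := by
  obtain ⟨L, h1, h2, h3, h4⟩ := h
  rw [← h4, ev_eq_sum w N L h1]
  refine Finset.sum_eq_zero fun i hi => ?_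
  have := Nat.eq_of_beq_eq_true (allN_sound hz (Finset.mem_range.1 hi))
  rw [h3, digit_addTo h1 (by omega) (Finset.mem_range.1 hi)] at this
  rw [← mod_smul' hp, show wt L i % p = 0 from this, zero_smul]

/-- A vector of value zero. -/
def IsZV (w : ℕ → V) (N : ℕ) (o : ℕ × ℕ) : Prop :=
  (∀ e ∈ unp o, e / 8 < N) ∧ ev w (unp o) = 0

theorem accH_packs {ρ : Alt n →* AddMonoid.End V} {w : ℕ → V} {p N : ℕ} (h8 : p ≤ 8) (hp0 : 0 < p)
    (hp : ∀ v : V, p • v = 0) {u : List ℕ} (hu : ∀ e ∈ u, e / 8 < N) (hu0 : ev w u = 0) :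
    ∀ (Hs : List ℕ), (∀ h ∈ Hs, ∃ g, GoodTab ρ w N h g) → ∀ (c X k : ℕ) (val : V),
      Packs w N X k val → Packs w N (accH p u Hs c X) (cntH u Hs + k) val := by
  intro Hs
  induction Hs with
  | nil => intro _ c X k val h; exact h.mono (by omega)
  | cons a Hs ih =>
    intro hH c X k val h
    have hk : cntH u (a :: Hs) + k = cntH u Hs + (u.length + k) := by
      simp [cntH, List.length_cons, Nat.mul_succ]; omega
    rw [hk]
    refine ih (fun h' hh' => hH h' (List.mem_cons_of_mem _ hh')) _ _ _ _ ?_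
    cases hc : Nat.beq (Nat.land c 15) 0 with
    | true => simp only [cond_true]; exact h.mono (by omega)
    | false =>
      simp only [cond_false]
      obtain ⟨g, hg⟩ := hH a (List.mem_cons_self ..)
      have hs : ∀ e ∈ scl p (Nat.land c 15) u, e / 8 < N := by
        intro e he
        simp only [scl_def, List.mem_map] at he
        obtain ⟨b, hb, rfl⟩ := he
        have := hu b hb
        have hlt : b % 8 * (Nat.land c 15) % p < 8 := lt_of_lt_of_le (Nat.mod_lt _ hp0) h8
        omega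
      have := h.add (mapT_idx h8 hp0 hg hs)
      rw [ev_mapT h8 hp0 hp hg hs, ev_scl h8 hp0 hp, hu0, smul_zero, map_zero, zero_add] at this
      exact this.mono (by simp [mapT, scl])

theorem accZ_packs {ρ : Alt n →* AddMonoid.End V} {w : ℕ → V} {p N : ℕ} (h8 : p ≤ 8) (hp0 : 0 < p)
    (hp : ∀ v : V, p • v = 0) {Hs : List ℕ} (hH : ∀ h ∈ Hs, ∃ g, GoodTab ρ w N h g) :
    ∀ (Z : List (ℕ × ℕ)), (∀ o ∈ Z, IsZV w N o) → ∀ (cs : List ℕ) (X k : ℕ) (val : V),
      Packs w N X k val → Packs w N (accZ p Hs Z cs X) (cntZ Hs Z cs + k) val := by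
  intro Z
  induction Z with
  | nil => intro _ cs X k val h; exact h.mono (by omega)
  | cons o Z ih =>
    intro hZ cs X k val h
    cases cs with
    | nil => exact h.mono (by omega)
    | cons c cs =>
      have hh : cntZ Hs (o :: Z) (c :: cs) + k =
          cntZ Hs Z cs + ((bif Nat.beq c 0 then 0 else cntH (unp o) Hs) + k) := by
        show (_ + cntZ Hs Z cs) + k = _
        omega
      rw [hh]
      refine ih (fun o' ho' => hZ o' (List.mem_cons_of_mem _ ho')) _ _ _ _ ?_
      cases hc : Nat.beq c 0 with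
      | true => simp only [cond_true]; exact h.mono (by omega)
      | false =>
        simp only [cond_false]
        obtain ⟨h1, h2⟩ := hZ o (List.mem_cons_self ..)
        exact accH_packs h8 hp0 hp h1 h2 Hs hH c X k val h

end

end Cfsg.Agent.Lib.S4100
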