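import Cfsg.Agent.Lib.S4100.Bad
import Cfsg.Agent.Lib.S4100.DataSMM
import Cfsg.Agent.Lib.S4100.DataSPM
import Cfsg.Agent.Lib.S4100.DataSPP

/-! Generated certificate `Start5`: N = 4. -/

set_option autoImplicit false
set_option linter.all false
set_option maxHeartbeats 0
set_option maxRecDepth 20000

namespace Cfsg.Agent.Lib.S4100.Start5

def amb0 : Tab := ⟨654820000545, 1, 0x19001100090001,
      0xa0001000a0001⟩

def amb1 : Tab := ⟨654820057920, 1, 0x11001900010009,
      0x0⟩

def amb2 : Tab := ⟨384523579920, 1, 0x19001100090001,
      0xe000e00020002⟩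

def amb3 : Tab := ⟨444685627920, 1, 0x9000100190011,
      0x0⟩

def grp0 : Grp :=
  ⟨[
    ⟨654820000545, 1, 0x19001100090001,
      0xa0001000a0001⟩,
    ⟨654820057920, 1, 0x11001900010009,
      0x0⟩,
    ⟨384523579920, 1, 0x19001100090001,
      0xe000e00020002⟩,
    ⟨444685627920, 1, 0x9000100190011,
      0x0⟩],
  [
    (0x19001100090001, 4)]⟩

def grp1 : Grp :=
  ⟨[
    ⟨654820000545, 1, 0x19001100090001,
      0xa0001000a0001⟩,
    ⟨654820057920, 4, 0x11001900010009,
      0x0⟩,
    ⟨384523579920, 1, 0x19001100090001,
      0xe000e00020002⟩,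
    ⟨444685627920, 4, 0x9000100190011,
      0x0⟩],
  [
    (0x190014000c0001, 4)]⟩

def grp2 : Grp :=
  ⟨[
    ⟨654820000545, 1, 0x19001100090001,
      0xa0001000a0001⟩,
    ⟨654820057920, 1, 0x11001900010009,
      0x0⟩,
    ⟨384523579920, 1, 0x19001100090001,
      0xe000e00020002⟩,
    ⟨444685627920, 4, 0x9000100190011,
      0x0⟩],
  [
    (0x1c001400090001, 4)]⟩

def grp3 : Grp :=
  ⟨[
    ⟨384523579920, 1, 0x19001100090001,
      0xe000e00020002⟩,
    ⟨444685627920, 1, 0x9000100190011,
      0x0⟩,
    ⟨654820000545, 1, 0x19001100090001,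
      0xa0001000a0001⟩,
    ⟨654820057920, 4, 0x11001900010009,
      0x0⟩],
  [
    (0x1c0011000c0001, 4)]⟩

def lg : List (ℕ × ℕ) := [(654820000545, 1), (384523579920, 1)]

def cert : Cert where
  n := 10
  p := 5
  N := 4
  nl := 25
  Lc := 0x8765932104876592104376598321048765910432765982104365987321048765904321765981043265987210435987632104876594321076598043216598710432598762104398765321047659843210659870432159876104329876521043659874321059876043219876510432598764321098765043219876543210
  Lp := 0xb100a100990089008100790069006100590051004900410039003100300029002100190018001100090008000100000000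
  Lam := 0x1000100010001000100010001000100010001000100010001000100010001000100010001000100010001000100010001
  lg := lg
  R := 0x6789512340678954321098765123409876543210
  Par := 0xb000300010000
  amb := [amb0, amb1, amb2, amb3]
  H0 := 0x19001100090001
  Hs := []
  grps := [grp0, grp1, grp2, grp3]
  sats := []
  fin := [0x4, 0x4, 0x4, 0x4]

theorem head_ok : chkHead cert = true := by decide +kernel

theorem lT_ok : chkL cert = true := by decide +kernel

theorem rT_ok : chkR cert = true := by decide +kernel

theorem ambT_ok : allL (chkTab cert) cert.amb = true := by decide +kernel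

theorem grpT_ok : allL (fun G => allL (chkTab cert) G.tabs) cert.grps = true := by decide +kernel

theorem satT_ok : allL (fun s => allL (fun tc => chkTab cert tc.1) s.tabs) cert.sats = true := by
  decide +kernel

theorem hT_ok : chkH cert = true := by decide +kernel

theorem orbT_ok : chkGrps cert = true := by decide +kernel

theorem movC_ok : chkMov cert = true := by decide +kernel

theorem satC_ok : chkSats cert cert.sats (baseZ cert ++ movZ cert) = true := by decide +kernel

theorem finC_ok : chkFin cert = true := by decide +kernel

theorem cert_ok : cert.Ok :=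
  ⟨head_ok, lT_ok, rT_ok, ambT_ok, grpT_ok, satT_ok, hT_ok, orbT_ok, movC_ok, satC_ok, finC_ok⟩

theorem zero {V : Type*} [AddCommGroup V] (ρ : Alt 10 →* AddMonoid.End V)
    (hp : ∀ v : V, 5 • v = 0) (hbad : BadMod ρ) : ZeroC ρ lg := by
  refine Cert.sound cert cert_ok ρ hp ?_ ?_ ?_
  · intro t ht
    change t ∈ [amb0, amb1, amb2, amb3] at ht
    simp only [List.mem_cons, List.not_mem_nil, or_false] at ht
    rcases ht with rfl | rfl | rfl | rfl
    · exact exists_rep (n := 10) [(0, 1), (1, 2), (2, 3), (3, 4)] (by decide) (by decide) _ (by decide +kernel)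
    · exact exists_rep (n := 10) [(1, 4), (2, 3)] (by decide) (by decide) _ (by decide +kernel)
    · exact exists_rep (n := 10) [(5, 6), (6, 7), (7, 8), (8, 9)] (by decide) (by decide) _ (by decide +kernel)
    · exact exists_rep (n := 10) [(6, 9), (7, 8)] (by decide) (by decide) _ (by decide +kernel)
  · intro G hG
    change G ∈ ([grp0, grp1, grp2, grp3] : List Grp) at hG
    simp only [List.mem_cons, List.not_mem_nil, or_false] at hG
    rcases hG with rfl | rfl | rfl | rfl
    · show ZeroC ρ [(654820000545, 1), (654820057920, 1), (384523579920, 1), (444685627920, 1)]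
      exact zeroC_conj hbad (l := SPP.lg) (fun ρ' h' => SPP.zero ρ' hp h') 654820258320 654820258320
        (by decide +kernel) (by decide +kernel)
    · show ZeroC ρ [(654820000545, 1), (654820057920, 4), (384523579920, 1), (444685627920, 4)]
      exact zeroC_conj hbad (l := SMM.lg) (fun ρ' h' => SMM.zero ρ' hp h') 654820258320 654820258320
        (by decide +kernel) (by decide +kernel)
    · show ZeroC ρ [(654820000545, 1), (654820057920, 1), (384523579920, 1), (444685627920, 4)]
      exact zeroC_conj hbad (l := SPM.lg) (fun ρ' h' => SPM.zero ρ' hp h') 654820258320 654820258320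
        (by decide +kernel) (by decide +kernel)
    · show ZeroC ρ [(384523579920, 1), (444685627920, 1), (654820000545, 1), (654820057920, 4)]
      exact zeroC_conj hbad (l := SPM.lg) (fun ρ' h' => SPM.zero ρ' hp h') 288317081445 288317081445
        (by decide +kernel) (by decide +kernel)
  · intro s hs
    change s ∈ ([] : List Sat) at hs
    simp only [List.mem_cons, List.not_mem_nil, or_false] at hs

end Cfsg.Agent.Lib.S4100.Start5
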