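import Cfsg.Agent.Lib.S4100.Bad
import Cfsg.Agent.Lib.S4100.DataDNeg
import Cfsg.Agent.Lib.S4100.DataDPos

/-! Generated certificate `X`: N = 2. -/

set_option autoImplicit false
set_option linter.all false
set_option maxHeartbeats 0
set_option maxRecDepth 20000

namespace Cfsg.Agent.Lib.S4100.X

def amb0 : Tab := ⟨654820000545, 1, 0x90001,
      0xf0001⟩

def amb1 : Tab := ⟨654820057920, 1, 0x90001,
      0x20002⟩

def amb2 : Tab := ⟨654301213200, 1, 0x90001,
      0xc0003⟩

def amb3 : Tab := ⟨590380020240, 1, 0xc0004,
      0x40004⟩

def amb4 : Tab := ⟨654804456480, 1, 0x10009,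
      0x20000⟩

def grp0 : Grp :=
  ⟨[
    ⟨654820000545, 1, 0x90001,
      0xf0001⟩,
    ⟨654820057920, 1, 0x90001,
      0x20002⟩,
    ⟨654301213200, 1, 0x90001,
      0xc0003⟩,
    ⟨590380020240, 4, 0xc0004,
      0x40004⟩,
    ⟨654804456480, 4, 0x10009,
      0x20000⟩],
  [
    (0xc0001, 2)]⟩

def grp1 : Grp :=
  ⟨[
    ⟨654820000545, 1, 0x90001,
      0xf0001⟩,
    ⟨654820057920, 1, 0x90001,
      0x20002⟩,
    ⟨654301213200, 1, 0x90001,
      0xc0003⟩,
    ⟨590380020240, 4, 0xc0004,
      0x40004⟩,
    ⟨654804456480, 1, 0x10009,
      0x20000⟩],
  [
    (0x90001, 2)]⟩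

def lg : List (ℕ × ℕ) := [(654820000545, 1), (654820057920, 1), (654301213200, 1), (590380020240, 4)]

def cert : Cert where
  n := 10
  p := 5
  N := 2
  nl := 60
  Lc := 0x895673210489675321049865732104895673401289675340129865734012895674012389675401239865740123895672104389675210439865721043895672340189675234019865723401897563210498576321048975634012985763401289567012348967501234986570123489567104328967510432986571043289756401239857640123897562104398576210438956712340896751234098657123408975623401985762340198765321049876534012895670432189675043219865704321897560123498576012348975610432985761043298765401239876521043895674321089675432109865743210897561234098576123409876523401897560432198576043219876501234987651043289756432109857643210987651234098765043219876543210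
  Lp := 0x162015b015a0152014b014a0112010b010a010200fb00fa00da00d300d200cb00ca00c300c200a2009b009a0092008b008a00830082007b007a005a00530052004b004a004900480042003b003a00330032002b002a002900280022001b001a001300120010000b000a0009000800030002000100000000
  Lam := 0x400040001000400040001000400040001000400040001000400040001000400010004000100040004000100040004000100040001000400010004000400010004000100010001000400040001000400010004000100010001000400040001000400010001000400010001000100040001000100010001
  lg := lg
  R := 0x98756314209876543210
  Par := 0x40000
  amb := [amb0, amb1, amb2, amb3, amb4]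
  H0 := 0x90001
  Hs := []
  grps := [grp0, grp1]
  sats := []
  fin := [0x3, 0x3]

theorem head_ok : chkHead cert = true := by decide +kernel

theorem lT_ok : chkL cert = true := by decide +kernel

theorem rT_ok : chkR cert = true := by decide +kernel

theorem ambT_ok : allL (chkTab cert) cert.amb = true := by decide +kernel

theorem grpT_ok : allL (fun G => allL (chkTab cert) G.tabs) cert.grps = true := by decide +kernel

theorem satT_ok : allL (fun s => allL (fun tc => chkTab cert tc.1) s.tabs) cert.sats = true := by
  decide +kernel

theorem hT_ok : chkH cert = true := by decide +kernel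

theorem orbT_ok : chkGrps cert = true := by decide +kernel

theorem movC_ok : chkMov cert = true := by decide +kernel

theorem satC_ok : chkSats cert cert.sats (baseZ cert ++ movZ cert) = true := by decide +kernel

theorem finC_ok : chkFin cert = true := by decide +kernel

theorem cert_ok : cert.Ok :=
  ⟨head_ok, lT_ok, rT_ok, ambT_ok, grpT_ok, satT_ok, hT_ok, orbT_ok, movC_ok, satC_ok, finC_ok⟩

theorem zero {V : Type*} [AddCommGroup V] (ρ : Alt 10 →* AddMonoid.End V)
    (hp : ∀ v : V, 5 • v = 0) (hbad : BadMod ρ) : ZeroC ρ lg := by
  refine Cert.sound cert cert_ok ρ hp ?_ ?_ ?_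
  · intro t ht
    change t ∈ [amb0, amb1, amb2, amb3, amb4] at ht
    simp only [List.mem_cons, List.not_mem_nil, or_false] at ht
    rcases ht with rfl | rfl | rfl | rfl | rfl
    · exact exists_rep (n := 10) [(0, 1), (1, 2), (2, 3), (3, 4)] (by decide) (by decide) _ (by decide +kernel)
    · exact exists_rep (n := 10) [(1, 4), (2, 3)] (by decide) (by decide) _ (by decide +kernel)
    · exact exists_rep (n := 10) [(5, 6), (6, 7)] (by decide) (by decide) _ (by decide +kernel)
    · exact exists_rep (n := 10) [(5, 6), (8, 9)] (by decide) (by decide) _ (by decide +kernel)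
    · exact exists_rep (n := 10) [(1, 2), (2, 4), (4, 3), (5, 6)] (by decide) (by decide) _ (by decide +kernel)
  · intro G hG
    change G ∈ ([grp0, grp1] : List Grp) at hG
    simp only [List.mem_cons, List.not_mem_nil, or_false] at hG
    rcases hG with rfl | rfl
    · show ZeroC ρ [(654820000545, 1), (654820057920, 1), (654301213200, 1), (590380020240, 4), (654804456480, 4)]
      exact zeroC_conj hbad (l := DPos.lg) (fun ρ' h' => DPos.zero ρ' hp h') 508307976720 436349448720
        (by decide +kernel) (by decide +kernel)
    · show ZeroC ρ [(654820000545, 1), (654820057920, 1), (654301213200, 1), (590380020240, 4), (654804456480, 1)]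
      exact zeroC_conj hbad (l := DNeg.lg) (fun ρ' h' => DNeg.zero ρ' hp h') 654820258320 654820258320
        (by decide +kernel) (by decide +kernel)
  · intro s hs
    change s ∈ ([] : List Sat) at hs
    simp only [List.mem_cons, List.not_mem_nil, or_false] at hs

end Cfsg.Agent.Lib.S4100.X
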