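import Mathlib
import Cfsg.Agent.Lib.S4100.Bad

/-!
A `p`-group fixes a nonzero vector.
-/

set_option autoImplicit false

namespace Cfsg.Agent.Lib.S4100

variable {n : ℕ} {V : Type*} [AddCommGroup V]

def closedOK (n : ℕ) (gens l : List ℕ) (m : ℕ) : Bool :=
  Nat.ble n 16 && (l.any (isId n) &&
    (gens.all (fun c => l.all fun d => l.any fun e => isComp n e c d) &&
      l.all fun d => powOK n (app d) m))

theorem trivial_of_zeroC {p k : ℕ} [Fact p.Prime] [Finite V] (hp : ∀ v : V, p • v = 0)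
    (ρ : Alt n →* AddMonoid.End V) (gens l : List ℕ)
    (hex : ∀ c ∈ gens, ∃ g : Alt n, Rep c g) (hchk : closedOK n gens l (p ^ k) = true)
    (hz : ZeroC ρ (gens.map fun c => (c, 1))) : ∀ v : V, v = 0 := by
  classical
  simp only [closedOK, Bool.and_eq_true, Nat.ble_eq, List.any_eq_true, List.all_eq_true] at hchk
  obtain ⟨hn, ⟨d0, hd0, hd0'⟩, hmul, hpow⟩ := hchk
  set Sset : Set (Alt n) := {g | ∃ c ∈ gens, Rep c g}
  set S := Subgroup.closure Sset
  let M : Set (Alt n) := {g | ∃ d ∈ l, Rep d g}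
  have hM1 : (1 : Alt n) ∈ M := ⟨d0, hd0, isId_sound hn hd0'⟩
  have hstep : ∀ g ∈ Sset, ∀ h ∈ M, g * h ∈ M := by
    rintro g ⟨c, hc, hcg⟩ h ⟨d, hd, hdh⟩
    obtain ⟨e, he, he'⟩ := hmul c hc d hd
    exact ⟨e, he, isComp_sound hn hcg hdh he'⟩
  have hpowM : ∀ g ∈ Sset, ∀ (j : ℕ), ∀ h ∈ M, g ^ j * h ∈ M := by
    intro g hg j
    induction j with
    | zero => intro h hh; simpa using hh
    | succ j ih =>
      intro h hh
      rw [pow_succ', mul_assoc]
      exact hstep g hg _ (ih h hh)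
  have hS : ∀ g ∈ S, g ∈ M := by
    intro g hg
    induction hg using Subgroup.closure_induction_left with
    | one => exact hM1
    | mul_left x hx y _ ih => exact hstep x hx y ih
    | inv_mul_cancel x hx y _ ih =>
      have : x⁻¹ = x ^ (orderOf x - 1) := by
        rw [eq_comm, ← mul_right_inj x, ← pow_succ', Nat.sub_add_cancel (orderOf_pos x),
          pow_orderOf_eq_one, mul_inv_cancel]
      rw [this]
      exact hpowM x hx _ y ih
  have hSp : IsPGroup p S := by
    intro g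
    obtain ⟨d, hd, hdg⟩ := hS g g.2
    exact ⟨k, Subtype.ext (powOK_sound hn (app d) (p ^ k) hdg (hpow d hd))⟩
  letI : MulAction S V :=
    { smul := fun g v => ρ (g : Alt n) v
      one_smul := fun v => by
        show ρ ((1 : S) : Alt n) v = v
        rw [OneMemClass.coe_one, map_one]
        rfl
      mul_smul := fun g h v => by
        show ρ ((g * h : S) : Alt n) v = ρ (g : Alt n) (ρ (h : Alt n) v)
        rw [Subgroup.coe_mul, map_mul]
        rfl }
  intro v
  by_contra hv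
  have : Nontrivial V := ⟨⟨v, 0, hv⟩⟩
  have hdvd : p ∣ Nat.card V := by
    have h1 : addOrderOf v = p := addOrderOf_eq_prime (hp v) hv
    rw [← h1]
    exact addOrderOf_dvd_natCard v
  obtain ⟨w, hw, hw0⟩ := hSp.exists_fixed_point_of_prime_dvd_card_of_fixed_point V hdvd
    (a := (0 : V)) (fun g => map_zero (ρ (g : Alt n)))
  refine hw0 (hz w fun cz hcz => ?_).symm
  obtain ⟨c, hc, rfl⟩ := List.mem_map.1 hcz
  obtain ⟨g, hg⟩ := hex c hc
  refine ⟨g, hg, ?_⟩
  rw [one_smul]
  exact hw ⟨g, Subgroup.subset_closure ⟨c, hc, hg⟩⟩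

end Cfsg.Agent.Lib.S4100
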