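import Mathlib
import Cfsg.Agent.Lib.Coprime.Quotient
import Cfsg.Agent.Lib.NilpotentPerm.Basic

/-!
Lifting a `p`-element with a nonsolvable centraliser through a kernel.
-/

set_option autoImplicit false

namespace Cfsg.Agent.Lib.S4100

open Subgroup
open scoped commutatorElement

/-- A subgroup mapping onto a nonsolvable group is not solvable. -/
theorem not_isSolvable_of_map {Y J : Type*} [Group Y] [Group J] (f : Y →* J) (C : Subgroup Y)
    (K : Subgroup J) (hK : K ≤ C.map f) (hns : ¬ Group.IsSolvable K) : ¬ Group.IsSolvable C := by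
  intro h
  apply hns
  have : Group.IsSolvable (C.map f) := Group.isSolvable_of_surjective (f.subgroupMap_surjective C)
  exact Group.isSolvable_of_isSolvable_injective (inclusion_injective hK)

variable {p : ℕ} [Fact p.Prime] {Y C K : Type*} [Group Y] [Finite Y] [CommGroup C] [Group K]
  [Finite K] [Finite C]

theorem exists_pElement_nonsolvable_centralizer [Group.IsPerfect K] [Nontrivial K]
    (hC : Nat.card C = p) (c : C) (χ : Y →* C × K) (hχ : Function.Surjective χ)
    (h : (∀ x ∈ χ.ker, (∃ k, orderOf x = p ^ k) → x ∈ center Y) ∨ ¬ p ∣ Nat.card K) :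
    ∃ x : Y, (∃ k, orderOf x = p ^ k) ∧ χ x = (c, 1) ∧
      ¬ Group.IsSolvable (centralizer ({x} : Set Y)) := by
  classical
  have hp : p.Prime := Fact.out
  set s : Y →* K := (MonoidHom.snd C K).comp χ with hs
  have hssurj : Function.Surjective s := fun k => by
    obtain ⟨y, hy⟩ := hχ (1, k)
    exact ⟨y, by simp [hs, hy]⟩
  have hns : ¬ Group.IsSolvable (⊤ : Subgroup K) := fun hh => by
    apply Group.IsPerfect.not_isSolvable (G := K)
    haveI := hh
    exact Group.isSolvable_of_surjective (f := (⊤ : Subgroup K).subtype) fun k => ⟨⟨k, trivial⟩, rfl⟩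
  set X := s.ker with hX
  let S : Sylow p X := default
  set T : Subgroup Y := (S : Subgroup X).map X.subtype with hT
  have hTp : IsPGroup p T := S.isPGroup'.map _
  have hTX : T ≤ X := by rintro _ ⟨x, -, rfl⟩; exact x.2
  -- the image of the Sylow subgroup
  have hS0 : ¬ p ∣ (S : Subgroup X).index := S.not_dvd_index
  have hex : ∀ d : C, ∃ t ∈ T, χ t = (d, 1) := by
    intro d
    let g : X →* C := ((MonoidHom.fst C K).comp χ).comp X.subtype
    have hgsurj : Function.Surjective g := fun d => by
      obtain ⟨y, hy⟩ := hχ (d, 1)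
      exact ⟨⟨y, by simp [hX, hs, MonoidHom.mem_ker, hy]⟩, by simp [g, hy]⟩
    have hidx : ((S : Subgroup X).map g).index = 1 := by
      refine Nat.eq_one_of_dvd_coprimes (a := p) (b := (S : Subgroup X).index)
        (hp.coprime_iff_not_dvd.2 hS0) ?_ ((S : Subgroup X).index_map_dvd hgsurj)
      exact (index_dvd_card _).trans hC.dvd
    have hd : d ∈ (S : Subgroup X).map g := by rw [index_eq_one.1 hidx]; trivial
    obtain ⟨t, ht, htd⟩ := mem_map.1 hd
    refine ⟨t, ⟨t, ht, rfl⟩, Prod.ext htd ?_⟩
    exact t.2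
  set U : Subgroup Y := normalizer (T : Set Y) with hU
  have hTU : T ≤ U := le_normalizer
  have hfr : U ⊔ X = ⊤ := Sylow.normalizer_sup_eq_top S
  have hsU : U.map s = ⊤ := by
    have := congrArg (Subgroup.map s) hfr
    rwa [Subgroup.map_sup, show X.map s = ⊥ from le_bot_iff.1 (by rintro _ ⟨y, hy, rfl⟩; exact mem_bot.2 hy),
      sup_bot_eq,
      map_top_of_surjective s hssurj] at this
  obtain ⟨x, hxT, hχx⟩ := hex c
  have hxp : ∀ t ∈ T, ∃ k, orderOf t = p ^ k := fun t ht => by
    obtain ⟨k, hk⟩ := IsPGroup.iff_orderOf.1 hTp ⟨t, ht⟩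
    exact ⟨k, by rwa [Subgroup.orderOf_mk] at hk⟩
  rcases h with hcen | hpK
  · refine ⟨x, hxp x hxT, hχx, ?_⟩
    have hcomm : ∀ u ∈ U, ⁅u, x⁆ ∈ center Y := by
      intro u hu
      have h1 : ⁅u, x⁆ ∈ T := by
        rw [commutatorElement_def]
        exact T.mul_mem ((mem_normalizer_iff.1 hu x).1 hxT) (T.inv_mem hxT)
      refine hcen _ ?_ (hxp _ h1)
      rw [MonoidHom.mem_ker, map_commutatorElement, hχx, commutatorElement_eq_one_iff_mul_comm]
      exact Prod.ext (mul_comm _ _) (by simp)
    let f : U →* center Y :=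
      { toFun := fun u => ⟨⁅(u : Y), x⁆, hcomm u u.2⟩
        map_one' := Subtype.ext (by simp)
        map_mul' := fun u v => Subtype.ext (by
          show ⁅(u : Y) * v, x⁆ = ⁅(u : Y), x⁆ * ⁅(v : Y), x⁆
          have hv := mem_center_iff.1 (hcomm v v.2)
          rw [commutatorElement_mul_left_eq_conj_mul, hv (u : Y), mul_inv_cancel_right,
            hv ⁅(u : Y), x⁆]) }
    refine not_isSolvable_of_map s _ ⊤ ?_ hns
    rw [← Group.IsPerfect.commutator_eq_top (G := K), commutator_def, ← hsU, ← map_commutator]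
    refine map_mono ?_
    rw [← map_subtype_commutator]
    rintro _ ⟨u, hu, rfl⟩
    rw [mem_centralizer_singleton_iff]
    have hu1 : f u = 1 := by
      have : (commutator U).map f = ⊥ := by
        rw [commutator_def, map_commutator, eq_bot_iff, commutator_le]
        intro a _ b _
        exact mem_bot.2 (commutatorElement_eq_one_iff_mul_comm.2
          (Subtype.ext (mem_center_iff.1 b.2 (a : Y))))
      exact mem_bot.1 (this ▸ mem_map_of_mem f hu)
    exact (commutatorElement_eq_one_iff_mul_comm.1 (congrArg Subtype.val hu1))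
  · -- coprime case
    let T' : Subgroup U := T.subgroupOf U
    have : T'.Normal := (normal_subgroupOf_iff_le_normalizer hTU).2 le_rfl
    have hcardT' : Nat.card T' = Nat.card T := Nat.card_congr (subgroupOfEquivOfLe hTU).toEquiv
    have hcop : (Nat.card T').Coprime T'.index := by
      obtain ⟨k, hk⟩ := IsPGroup.iff_card.1 hTp
      rw [hcardT', hk]
      refine Nat.Coprime.pow_left _ (hp.coprime_iff_not_dvd.2 ?_)
      have h1 : T'.index = T.relIndex U := rfl
      have h2 : T.relIndex U ∣ T.relIndex (X ⊓ U) * (X ⊓ U).relIndex U := by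
        rw [relIndex_mul_relIndex _ _ _ (le_inf hTX hTU) inf_le_right]
      intro hd
      rcases hp.dvd_mul.1 ((h1 ▸ hd).trans h2) with hd | hd
      · refine hS0 (hd.trans ?_)
        have h3 : (S : Subgroup X).index = T.relIndex X := by
          rw [hT, Subgroup.relIndex, subgroupOf, comap_map_eq_self_of_injective X.subtype_injective]
        rw [h3, ← relIndex_mul_relIndex T (X ⊓ U) X (le_inf hTX hTU) inf_le_left]
        exact Dvd.intro _ rfl
      · rw [inf_relIndex_right] at hd
        refine hpK (hd.trans ?_)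
        have : X.relIndex U = Nat.card (U.map s) := by
          rw [hX, ← MonoidHom.comap_bot, relIndex_comap, relIndex_bot_left]
        rw [this]
        exact card_subgroup_dvd_card _
    obtain ⟨Q', hQ'⟩ := exists_right_complement'_of_coprime hcop
    set Q : Subgroup Y := Q'.map U.subtype with hQ
    have hQU : Q ≤ U := by rintro _ ⟨q, -, rfl⟩; exact q.2
    have hsQ : Q.map s = ⊤ := by
      refine eq_top_iff.2 ?_
      rw [← hsU]
      rintro _ ⟨u, hu, rfl⟩
      have hmem : (⟨u, hu⟩ : U) ∈ T' ⊔ Q' := by rw [hQ'.sup_eq_top]; trivial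
      obtain ⟨a, ha, b, hb, hab⟩ := mem_sup_of_normal_left.1 hmem
      have e : u = (a : Y) * (b : Y) := (congrArg Subtype.val hab).symm
      rw [e, map_mul, (hTX ha : s (a : Y) = 1), one_mul]
      exact ⟨b, ⟨b, hb, rfl⟩, rfl⟩
    let N₀ : Subgroup Y := T ⊓ χ.ker
    have hN₀p : IsPGroup p N₀ := hTp.to_le inf_le_left
    have hAN : Q ≤ normalizer (N₀ : Set Y) := by
      intro q hq
      rw [mem_normalizer_iff]
      intro y
      have h1 := (mem_normalizer_iff.1 (hQU hq)) y
      simp only [N₀, mem_inf, h1, MonoidHom.mem_ker, map_mul, map_inv, mul_inv_eq_one]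
      constructor <;> rintro ⟨h2, h3⟩ <;> refine ⟨h2, ?_⟩
      · rw [h3, mul_one]
      · exact mul_eq_left.1 h3
    have hcop' : (Nat.card Q).Coprime (Nat.card N₀) := by
      have h1 : Nat.card Q = T'.index := by
        rw [hQ, card_map_of_injective U.subtype_injective, ← hQ'.symm.index_eq_card]
      rw [h1]
      refine Nat.Coprime.coprime_dvd_right ?_ hcop.symm
      rw [hcardT']
      exact card_dvd_of_le inf_le_left
    haveI : Group.IsNilpotent N₀ := hN₀p.isNilpotent
    obtain ⟨z, hz, hzN⟩ := Coprime.exists_centralizer_mem_leftCoset hAN hcop'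
      (Or.inr inferInstance) (k := x) (by
        intro a ha
        refine mem_inf.2 ⟨T.mul_mem (T.inv_mem hxT) ((mem_normalizer_iff.1 (hQU ha) x).1 hxT), ?_⟩
        rw [MonoidHom.mem_ker, map_mul, map_inv, map_mul, map_mul, map_inv, hχx]
        refine Prod.ext ?_ (by simp)
        show c⁻¹ * ((χ a).1 * c * (χ a).1⁻¹) = 1
        rw [mul_inv_cancel_comm, inv_mul_cancel])
    obtain ⟨hz1, hz2⟩ := mem_inf.1 hzN
    have hzT : z ∈ T := by simpa using T.mul_mem hxT hz1
    refine ⟨z, hxp z hzT, ?_, ?_⟩
    · rw [MonoidHom.mem_ker, map_mul, map_inv, inv_mul_eq_one] at hz2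
      rw [← hz2, hχx]
    · refine not_isSolvable_of_map s _ ⊤ ?_ hns
      rw [← hsQ]
      refine map_mono fun q hq => mem_centralizer_singleton_iff.2 ?_
      exact mem_centralizer_iff.1 hz q hq

end Cfsg.Agent.Lib.S4100
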