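import Mathlib
import Cfsg.Agent.Lib.S4100.Bad
import Cfsg.Agent.Lib.S4100.Lift

/-!
A noncentral `p`-element in the kernel gives a bad module.
-/

set_option autoImplicit false

namespace Cfsg.Agent.Lib.S4100

open Subgroup
open scoped commutatorElement

/-- Two generators of a triangle quotient with coprime exponents generate a perfect group. -/
theorem isPerfect_closure_pair {A : Type*} [Group A] {a b : A} {i j k : ℕ}
    (hij : i.Coprime j) (hik : i.Coprime k) (hjk : j.Coprime k)
    (ha : a ^ i = 1) (hb : b ^ j = 1) (hab : (a * b) ^ k = 1) :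
    Group.IsPerfect (closure ({a, b} : Set A)) := by
  set K := closure ({a, b} : Set A)
  let q : K →* K ⧸ commutator K := QuotientGroup.mk' (commutator K)
  let a' : K := ⟨a, subset_closure (by simp)⟩
  let b' : K := ⟨b, subset_closure (by simp)⟩
  have hcomm : Commute (q a') (q b') := by
    show q a' * q b' = q b' * q a'
    rw [← map_mul, ← map_mul]
    refine (QuotientGroup.eq).2 ?_
    rw [commutator_def]
    have : (a' * b')⁻¹ * (b' * a') = ⁅b'⁻¹, a'⁻¹⁆ := by simp [commutatorElement_def, mul_assoc]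
    rw [this]
    exact commutator_mem_commutator (mem_top _) (mem_top _)
  have h1 : q a' ^ i = 1 := by rw [← map_pow, show a' ^ i = 1 from Subtype.ext ha, map_one]
  have h2 : q b' ^ j = 1 := by rw [← map_pow, show b' ^ j = 1 from Subtype.ext hb, map_one]
  have h3 : (q a' * q b') ^ k = 1 := by
    rw [← map_mul, ← map_pow, show (a' * b') ^ k = 1 from Subtype.ext hab, map_one]
  have h4 : (q a' * q b') ^ (i * j) = 1 := by
    rw [hcomm.mul_pow, pow_mul, h1, one_pow, mul_comm i j, pow_mul, h2, one_pow, one_mul]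
  have h5 : q a' * q b' = 1 := by
    have h5' := pow_gcd_eq_one.2 ⟨h4, h3⟩
    rwa [(Nat.Coprime.mul_left hik hjk), pow_one] at h5'
  have h6 : q a' = (q b')⁻¹ := eq_inv_of_mul_eq_one_left h5
  have h7 : q a' = 1 := by
    have h7' := pow_gcd_eq_one.2 ⟨h1, show q a' ^ j = 1 by rw [h6, inv_pow, h2, inv_one]⟩
    rwa [hij, pow_one] at h7'
  have h8 : q b' = 1 := by rwa [h7, one_mul] at h5
  refine Group.isPerfect_def.2 (eq_top_iff.2 ?_)
  rintro ⟨x, hx⟩ -
  have : q ⟨x, hx⟩ = 1 := by
    induction hx using closure_induction with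
    | mem y hy =>
      rcases Set.mem_insert_iff.1 hy with rfl | hy
      · exact h7
      · obtain rfl := Set.mem_singleton_iff.1 hy
        exact h8
    | one => exact map_one q
    | mul y z hy hz ihy ihz =>
      rw [show (⟨y * z, mul_mem hy hz⟩ : K) = ⟨y, hy⟩ * ⟨z, hz⟩ from rfl, map_mul, ihy, ihz,
        one_mul]
    | inv y hy ih =>
      rw [show (⟨y⁻¹, inv_mem hy⟩ : K) = (⟨y, hy⟩ : K)⁻¹ from rfl, map_inv, ih, inv_one]
  exact (QuotientGroup.eq_one_iff _).1 this

universe u

variable {H : Type u} [Group H] [Finite H] {n p : ℕ} [Fact p.Prime]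

theorem exists_badMod (φ : H →* Alt n) (hφ : Function.Surjective φ)
    (hnil : Group.IsNilpotent φ.ker)
    (hyp : ∀ x : H, x ∉ center H → (∃ k, orderOf x = p ^ k) →
      Group.IsSolvable (centralizer ({x} : Set H)))
    (hnc : ∃ x ∈ φ.ker, (∃ k, orderOf x = p ^ k) ∧ x ∉ center H) :
    ∃ (V : Type u) (_ : AddCommGroup V) (ρ : Alt n →* AddMonoid.End V),
      Finite V ∧ (∀ v : V, p • v = 0) ∧ BadMod ρ ∧ ∃ v : V, v ≠ 0 := by
  classical
  have hp : p.Prime := Fact.out
  let S : Sylow p φ.ker := default
  set P : Subgroup H := (S : Subgroup φ.ker).map φ.ker.subtype with hPdef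
  have hPp : IsPGroup p P := S.isPGroup'.map _
  have hPN : P ≤ φ.ker := by rintro _ ⟨x, -, rfl⟩; exact x.2
  have hSn : (S : Subgroup φ.ker).Normal := by
    haveI := hnil
    infer_instance
  have hPn : P.Normal := by
    have := Sylow.characteristic_of_normal S hSn
    exact ConjAct.normal_of_characteristic_of_normal
  have hmemP : ∀ x ∈ φ.ker, (∃ k, orderOf x = p ^ k) → x ∈ P := by
    intro x hx ⟨k, hk⟩
    have hz : IsPGroup p (zpowers (⟨x, hx⟩ : φ.ker)) := by
      refine IsPGroup.of_card (n := k) ?_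
      rw [Nat.card_zpowers, Subgroup.orderOf_mk, hk]
    obtain ⟨S', hS'⟩ := hz.exists_le_sylow
    have := Sylow.unique_of_normal S hSn
    obtain rfl : S' = S := Subsingleton.elim _ _
    exact ⟨_, hS' (mem_zpowers _), rfl⟩
  set Z : Subgroup H := P ⊓ center H with hZ
  have hZn : Z.Normal := by
    refine ⟨fun z hz g => ?_⟩
    obtain ⟨hz1, hz2⟩ := mem_inf.1 hz
    rw [mem_center_iff.1 hz2 g, mul_inv_cancel_right]
    exact hz
  let π : H →* H ⧸ Z := QuotientGroup.mk' Z
  set Pb : Subgroup (H ⧸ Z) := P.map π with hPb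
  have hPbp : IsPGroup p Pb := hPp.map _
  have hPbn : Pb.Normal := hPn.map π (QuotientGroup.mk'_surjective Z)
  -- the module
  let W : Subgroup (H ⧸ Z) :=
    { carrier := {x | x ∈ Pb ∧ x ∈ centralizer (Pb : Set (H ⧸ Z)) ∧ x ^ p = 1}
      one_mem' := ⟨one_mem _, one_mem _, one_pow p⟩
      mul_mem' := fun {x y} hx hy => ⟨mul_mem hx.1 hy.1, mul_mem hx.2.1 hy.2.1, by
        rw [Commute.mul_pow (mem_centralizer_iff.1 hy.2.1 x hx.1) p, hx.2.2, hy.2.2, one_mul]⟩
      inv_mem' := fun {x} hx => ⟨inv_mem hx.1, inv_mem hx.2.1, by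
        rw [inv_pow, hx.2.2, inv_one]⟩ }
  have hWn : W.Normal := by
    refine ⟨fun x hx g => ⟨hPbn.conj_mem x hx.1 g, ?_, by rw [conj_pow, hx.2.2]; simp⟩⟩
    refine mem_centralizer_iff.2 fun y hy => ?_
    have h1 := mem_centralizer_iff.1 hx.2.1 (g⁻¹ * y * g⁻¹⁻¹) (hPbn.conj_mem y hy g⁻¹)
    rw [inv_inv] at h1
    calc y * (g * x * g⁻¹) = g * (g⁻¹ * y * g * x) * g⁻¹ := by group
      _ = g * (x * (g⁻¹ * y * g)) * g⁻¹ := by rw [h1]
      _ = g * x * g⁻¹ * y := by group
  have hcommW : ∀ x y : W, x * y = y * x :=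
    fun x y => Subtype.ext (mem_centralizer_iff.1 y.2.2.1 x x.2.1)
  letI : CommGroup W := { (inferInstance : Group W) with mul_comm := hcommW }
  -- the kernel acts trivially
  have hker : ∀ y ∈ φ.ker, ∀ x ∈ W, π y * x * (π y)⁻¹ = x := by
    intro y hy x hx
    have hcom : Commute (π y) x := by
      obtain ⟨A, B, hA, hB, -, hgen, -, -⟩ := NilpotentPerm.exists_pPart_complement hnil p
      obtain ⟨a, ha, b, hb, hab⟩ := hgen ⟨y, hy⟩
      have e : y = (a : H) * b := congrArg Subtype.val hab.symm
      obtain ⟨w, hw, rfl⟩ := mem_map.1 hx.1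
      rw [e, map_mul]
      refine Commute.mul_left ?_ ?_
      · obtain ⟨k, hk⟩ := IsPGroup.iff_orderOf.1 hA ⟨a, ha⟩
        rw [Subgroup.orderOf_mk, ← Subgroup.orderOf_coe] at hk
        exact mem_centralizer_iff.1 hx.2.1 _ (mem_map_of_mem π (hmemP _ a.2 ⟨k, hk⟩))
      · refine Commute.map ?_ π
        refine congrArg Subtype.val (NilpotentPerm.commute_of_coprime_orderOf hnil
          (a := b) (b := ⟨w, hPN hw⟩) ?_)
        obtain ⟨k, hk⟩ := IsPGroup.iff_orderOf.1 hPp ⟨w, hw⟩
        rw [Subgroup.orderOf_mk] at hk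
        rw [show orderOf (⟨w, hPN hw⟩ : φ.ker) = orderOf w from Subgroup.orderOf_mk _ _, hk]
        exact ((Nat.Coprime.coprime_dvd_left (B.orderOf_dvd_natCard hb) hB)).pow_right k
    rw [hcom.eq, mul_inv_cancel_right]
  let act0 : H →* AddMonoid.End (Additive W) :=
    { toFun := fun g => MonoidHom.toAdditive (MulAut.conjNormal (H := W) (π g)).toMonoidHom
      map_one' := AddMonoidHom.ext fun x => by
        show Additive.ofMul (MulAut.conjNormal (H := W) (π 1) x.toMul) = x
        simp
      map_mul' := fun g g' => AddMonoidHom.ext fun x => by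
        show Additive.ofMul (MulAut.conjNormal (H := W) (π (g * g')) x.toMul) =
          Additive.ofMul (MulAut.conjNormal (H := W) (π g)
            (MulAut.conjNormal (H := W) (π g') x.toMul))
        rw [map_mul π, map_mul]
        rfl }
  have hact0 : φ.ker ≤ act0.ker := by
    intro y hy
    refine MonoidHom.mem_ker.2 ?_
    refine AddMonoidHom.ext fun x => ?_
    show Additive.ofMul (MulAut.conjNormal (H := W) (π y) x.toMul) = x
    exact congrArg Additive.ofMul (Subtype.ext (hker y hy _ x.toMul.2) :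
      MulAut.conjNormal (H := W) (π y) x.toMul = x.toMul)
  let e := QuotientGroup.quotientKerEquivOfSurjective φ hφ
  let ρ : Alt n →* AddMonoid.End (Additive W) :=
    (QuotientGroup.lift φ.ker act0 hact0).comp e.symm.toMonoidHom
  have hρ : ∀ g : H, ρ (φ g) = act0 g := by
    intro g
    show (QuotientGroup.lift φ.ker act0 hact0) (e.symm (φ g)) = _
    rw [show φ g = e (QuotientGroup.mk g) from rfl, MulEquiv.symm_apply_apply]
    rfl
  refine ⟨Additive W, inferInstance, ρ, Finite.of_equiv W Additive.ofMul, ?_, ?_, ?_⟩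
  · intro v
    exact congrArg Additive.ofMul (Subtype.ext v.toMul.2.2.2 : v.toMul ^ p = 1)
  · -- no nonsolvable fixed points
    intro a b i j k hij hik hjk ha hb hab hne v hav hbv
    by_contra hv0
    set K := closure ({a, b} : Set (Alt n)) with hK
    have hperf := isPerfect_closure_pair hij hik hjk ha hb hab
    have hKns : ¬ Group.IsSolvable K := by
      have : Nontrivial K := ⟨⟨⟨a, subset_closure (by simp)⟩, 1, fun he =>
        hne (congrArg Subtype.val he)⟩⟩
      exact Group.IsPerfect.not_isSolvable K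
    obtain ⟨w, hwP, hwv⟩ := mem_map.1 v.toMul.2.1
    have hfix : ∀ u ∈ K.comap φ, ⁅u, w⁆ ∈ center H := by
      intro u hu
      have h1 : ρ (φ u) v = v := by
        have : K ≤ ({ carrier := {g | ρ g v = v}
                      one_mem' := by simp
                      mul_mem' := fun {x y} hx hy => by
                        simp only [Set.mem_ofPred_eq] at hx hy ⊢
                        rw [map_mul]
                        show ρ x (ρ y v) = v
                        rw [hy, hx]
                      inv_mem' := fun {x} hx => by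
                        simp only [Set.mem_ofPred_eq] at hx ⊢
                        conv_lhs => rw [← hx]
                        show (ρ x⁻¹ * ρ x) v = v
                        rw [← map_mul, inv_mul_cancel, map_one]
                        rfl } : Subgroup (Alt n)) := by
          rw [hK, closure_le]
          intro x hx
          rcases Set.mem_insert_iff.1 hx with rfl | hx
          · exact hav
          · obtain rfl := Set.mem_singleton_iff.1 hx
            exact hbv
        exact this hu
      rw [hρ] at h1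
      have h2 : π u * π w * (π u)⁻¹ = π w := by
        rw [hwv]
        exact congrArg (fun z : Additive W => ((z.toMul : W) : H ⧸ Z)) h1
      have h3 : ⁅u, w⁆ ∈ Z := by
        rw [← QuotientGroup.eq_one_iff, commutatorElement_def]
        show π (u * w * u⁻¹ * w⁻¹) = 1
        rw [map_mul, map_mul, map_mul, map_inv, map_inv, h2, mul_inv_cancel]
      exact (mem_inf.1 h3).2
    have hwc : w ∉ center H := by
      intro hc
      refine hv0 (congrArg Additive.ofMul (Subtype.ext ?_ : v.toMul = 1))
      rw [← hwv]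
      exact (QuotientGroup.eq_one_iff w).2 (mem_inf.2 ⟨hwP, hc⟩)
    obtain ⟨k', hk'⟩ := IsPGroup.iff_orderOf.1 hPp ⟨w, hwP⟩
    rw [Subgroup.orderOf_mk] at hk'
    refine not_isSolvable_of_map φ (centralizer {w}) K ?_ hKns (hyp w hwc ⟨k', hk'⟩)
    set U := K.comap φ
    have hKU : K = ⁅U, U⁆.map φ := by
      rw [map_commutator, map_comap_eq_self_of_surjective hφ]
      exact (@Subgroup.commutator_eq_self _ _ K hperf).symm
    rw [hKU]
    refine map_mono ?_
    let f : U →* center H :=
      { toFun := fun u => ⟨⁅(u : H), w⁆, hfix u u.2⟩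
        map_one' := Subtype.ext (by simp)
        map_mul' := fun u u' => Subtype.ext (by
          show ⁅(u : H) * u', w⁆ = ⁅(u : H), w⁆ * ⁅(u' : H), w⁆
          have hv := mem_center_iff.1 (hfix u' u'.2)
          rw [commutatorElement_mul_left_eq_conj_mul, hv (u : H), mul_inv_cancel_right,
            hv ⁅(u : H), w⁆]) }
    rw [← map_subtype_commutator]
    rintro _ ⟨u, hu, rfl⟩
    have hu1 : f u = 1 := by
      have : (commutator U).map f = ⊥ := by
        rw [_root_.commutator_def, map_commutator, eq_bot_iff, commutator_le]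
        intro x _ y _
        exact mem_bot.2 (commutatorElement_eq_one_iff_mul_comm.2
          (Subtype.ext (mem_center_iff.1 y.2 (x : H))))
      exact mem_bot.1 (this ▸ mem_map_of_mem f hu)
    rw [mem_centralizer_singleton_iff]
    exact commutatorElement_eq_one_iff_mul_comm.1 (congrArg Subtype.val hu1)
  · -- a nonzero vector
    obtain ⟨x, hxN, hxp, hxc⟩ := hnc
    have hxP := hmemP x hxN hxp
    have : Nontrivial Pb := by
      refine ⟨⟨π x, mem_map_of_mem π hxP⟩, 1, fun he => hxc ?_⟩
      exact (mem_inf.1 ((QuotientGroup.eq_one_iff x).1 (congrArg Subtype.val he))).2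
    have := hPbp.center_nontrivial
    obtain ⟨m, hm0, hm⟩ := (hPbp.to_subgroup (center Pb)).nontrivial_iff_card.1 inferInstance
    obtain ⟨z, hz⟩ := exists_prime_orderOf_dvd_card' (G := center Pb) p
      (hm ▸ dvd_pow_self _ (Nat.pos_iff_ne_zero.1 hm0))
    have hzW : ((z : Pb) : H ⧸ Z) ∈ W := by
      refine ⟨(z : Pb).2, mem_centralizer_iff.2 fun y hy => ?_, ?_⟩
      · exact congrArg Subtype.val (mem_center_iff.1 z.2 ⟨y, hy⟩)
      · rw [← Subgroup.coe_pow, ← Subgroup.coe_pow, ← hz, pow_orderOf_eq_one]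
        rfl
    refine ⟨Additive.ofMul ⟨_, hzW⟩, fun he => ?_⟩
    have h0 : ((z : Pb) : H ⧸ Z) = 1 := congrArg (fun q : Additive W => ((q.toMul : W) : H ⧸ Z)) he
    have : z = 1 := Subtype.ext (Subtype.ext h0)
    rw [this, orderOf_one] at hz
    exact hp.ne_one hz.symm

end Cfsg.Agent.Lib.S4100
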