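import Mathlib
import Cfsg.Agent.Lib.S4100.Module
import Cfsg.Agent.Lib.AltSections.SectionLift
import Cfsg.Agent.Lib.Involves.Basic

/-!
Reduction of the bound on involved alternating groups to the absence of bad modules.
-/

set_option autoImplicit false

namespace Cfsg.Agent.Lib.S4100

open Subgroup

universe u

instance : Group.IsPerfect (Alt 5) := ⟨commutator_alternatingGroup_eq_top (by simp)⟩

instance : Nontrivial (Alt 5) := alternatingGroup.nontrivial_of_three_le_card (by simp)

/-- Permutations of the first `m` and of the last five points. -/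
noncomputable def splitHom (m : ℕ) : Alt m × Alt 5 →* Alt (m + 5) :=
  ((finSumFinEquiv.permCongrHom.toMonoidHom.comp (Equiv.Perm.sumCongrHom (Fin m) (Fin 5))).comp
    ((alternatingGroup (Fin m)).subtype.prodMap (alternatingGroup (Fin 5)).subtype)).codRestrict
    (alternatingGroup (Fin (m + 5))) fun x => by
      rw [Equiv.Perm.mem_alternatingGroup]
      show Equiv.Perm.sign (finSumFinEquiv.permCongr
        (Equiv.Perm.sumCongr (x.1 : Equiv.Perm (Fin m)) (x.2 : Equiv.Perm (Fin 5)))) = 1
      rw [Equiv.Perm.sign_permCongr, Equiv.Perm.sign_sumCongr,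
        Equiv.Perm.mem_alternatingGroup.1 x.1.2, Equiv.Perm.mem_alternatingGroup.1 x.2.2, mul_one]

theorem splitHom_injective (m : ℕ) : Function.Injective (splitHom m) := by
  intro x y h
  have h1 := congrArg Subtype.val h
  have h2 := Equiv.Perm.sumCongrHom_injective (α := Fin m) (β := Fin 5)
    (finSumFinEquiv.permCongrHom.injective h1)
  exact Prod.ext (Subtype.ext (congrArg Prod.fst h2)) (Subtype.ext (congrArg Prod.snd h2))

theorem no_section {G : Type u} [Group G] [Finite G] {p : ℕ} [Fact p.Prime]
    (hyp : ∀ x : G, x ∉ center G → (∃ k, orderOf x = p ^ k) →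
      Group.IsSolvable (centralizer ({x} : Set G)))
    {m : ℕ} (x0 : Alt m) (hx0 : orderOf x0 = p)
    (hmod : (¬ p ∣ 60) ∨ ∀ (V : Type u) [AddCommGroup V] [Finite V]
      (ρ : Alt (m + 5) →* AddMonoid.End V),
        (∀ v : V, p • v = 0) → BadMod ρ → ∀ v : V, v = 0) :
    ¬ Cfsg.Involves (Alt (m + 5)) G := by
  classical
  intro hinv
  have hp : p.Prime := Fact.out
  -- a minimal subgroup mapping onto the alternating group
  have hne : {K : Subgroup G | ∃ f : K →* Alt (m + 5), Function.Surjective f}.Nonempty :=
    let ⟨K, f, hf⟩ := Involves.exists_surjective hinv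
    ⟨K, f, hf⟩
  obtain ⟨H, hmin⟩ := (Set.toFinite _).exists_minimal hne
  obtain ⟨φ, hφ⟩ := hmin.1
  have hsub : ∀ M : Subgroup H, M.map φ = ⊤ → M = ⊤ := by
    intro M hM
    have hle : M.map H.subtype ≤ H := map_subtype_le M
    let e := M.equivMapOfInjective H.subtype H.subtype_injective
    have hsurj : Function.Surjective ((φ.comp M.subtype).comp e.symm.toMonoidHom) := by
      intro a
      obtain ⟨b, hb, rfl⟩ : a ∈ M.map φ := hM ▸ mem_top a
      exact ⟨e ⟨b, hb⟩, by simp⟩
    have h1 := hmin.2 (y := M.map H.subtype) ⟨_, hsurj⟩ hle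
    rw [eq_top_iff]
    intro y _
    obtain ⟨z, hz, hzy⟩ := h1 y.2
    rwa [← H.subtype_injective hzy]
  have hypH : ∀ x : H, x ∉ center H → (∃ k, orderOf x = p ^ k) →
      Group.IsSolvable (centralizer ({x} : Set H)) := by
    intro x hx hk
    have h1 : (x : G) ∉ center G := fun hc => hx (mem_center_iff.2 fun y =>
      Subtype.ext (mem_center_iff.1 hc y))
    have h2 := hyp x h1 (by rwa [Subgroup.orderOf_coe])
    exact Group.isSolvable_of_isSolvable_injective
      (f := (H.subtype.comp (centralizer {x}).subtype).codRestrict (centralizer {(x : G)})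
        fun y => mem_centralizer_singleton_iff.2
          (congrArg Subtype.val (mem_centralizer_singleton_iff.1 y.2)))
      fun a b h => Subtype.ext (Subtype.ext (congrArg Subtype.val h :))
  have hnil : Group.IsNilpotent φ.ker := by
    have hle : φ.ker ≤ frattini H := by
      refine le_iInf₂ fun M hM => ?_
      by_contra hnot
      have h1 : M ⊔ φ.ker = ⊤ := hM.2 _ (left_lt_sup.2 hnot)
      refine hM.1 (hsub M ?_)
      have h2 := congrArg (Subgroup.map φ) h1
      rwa [Subgroup.map_sup, show φ.ker.map φ = ⊥ from le_bot_iff.1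
        (by rintro _ ⟨y, hy, rfl⟩; exact mem_bot.2 hy), sup_bot_eq,
        map_top_of_surjective φ hφ] at h2
    have := frattini_nilpotent (G := H)
    exact nilpotent_of_mulEquiv (subgroupOfEquivOfLe hle)
  -- the product of the cyclic group and `A₅`
  letI : CommGroup (zpowers x0) := IsCyclic.commGroup
  let ι : zpowers x0 × Alt 5 →* Alt (m + 5) :=
    (splitHom m).comp ((zpowers x0).subtype.prodMap (MonoidHom.id _))
  have hι : Function.Injective ι := (splitHom_injective m).comp fun a b h =>
    Prod.ext (Subtype.ext (congrArg Prod.fst h)) (congrArg Prod.snd h :)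
  let Y : Subgroup H := ι.range.comap φ
  let χ : Y →* zpowers x0 × Alt 5 :=
    (MonoidHom.ofInjective hι).symm.toMonoidHom.comp
      ((φ.comp Y.subtype).codRestrict ι.range fun y => y.2)
  have hχval : ∀ y : Y, ι (χ y) = φ y := fun y => by
    have := (MonoidHom.ofInjective hι).apply_symm_apply
      (((φ.comp Y.subtype).codRestrict ι.range fun y => y.2) y)
    exact congrArg Subtype.val this
  have hχ : Function.Surjective χ := by
    intro a
    obtain ⟨b, hb⟩ := hφ (ι a)
    exact ⟨⟨b, a, hb.symm⟩, hι (by rw [hχval]; exact hb)⟩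
  have hcond : (∀ x ∈ χ.ker, (∃ k, orderOf x = p ^ k) → x ∈ center Y) ∨
      ¬ p ∣ Nat.card (Alt 5) := by
    rcases hmod with h60 | hmod
    · refine Or.inr ?_
      rwa [nat_card_alternatingGroup, Nat.card_fin,
        show (Nat.factorial 5 / 2 : ℕ) = 60 by rfl]
    · refine Or.inl fun x hx hk => ?_
      by_contra hxc
      have hxN : (x : H) ∈ φ.ker := by
        rw [MonoidHom.mem_ker, ← hχval, MonoidHom.mem_ker.1 hx, map_one]
      obtain ⟨V, _, ρ, _, hpV, hbad, v, hv⟩ := exists_badMod φ hφ hnil hypH
        ⟨x, hxN, by rwa [Subgroup.orderOf_coe], fun hc => hxc (mem_center_iff.2 fun y =>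
          Subtype.ext (mem_center_iff.1 hc y))⟩
      exact hv (hmod V ρ hpV hbad v)
  obtain ⟨x, hxp, hχx, hns⟩ := exists_pElement_nonsolvable_centralizer (p := p)
    (by rw [Nat.card_zpowers, hx0]) (⟨x0, mem_zpowers x0⟩ : zpowers x0) χ hχ hcond
  have hxc : (x : H) ∈ center H := by
    by_contra hxc
    refine hns ?_
    have h := hypH x hxc (by rwa [Subgroup.orderOf_coe])
    exact Group.isSolvable_of_isSolvable_injective
      (f := (Y.subtype.comp (centralizer {x}).subtype).codRestrict (centralizer {(x : H)})
        fun y => mem_centralizer_singleton_iff.2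
          (congrArg Subtype.val (mem_centralizer_singleton_iff.1 y.2)))
      fun a b h => Subtype.ext (Subtype.ext (congrArg Subtype.val h :))
  have h1 : φ x = 1 := by
    have : φ x ∈ center (Alt (m + 5)) := mem_center_iff.2 fun a => by
      obtain ⟨b, rfl⟩ := hφ a
      rw [← map_mul, ← map_mul, mem_center_iff.1 hxc b]
    rwa [alternatingGroup.center_eq_bot (by simp), mem_bot] at this
  rw [← hχval, hχx] at h1
  have h2 := congrArg Prod.fst (hι (h1.trans (map_one ι).symm))
  have h3 : x0 = 1 := congrArg Subtype.val h2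
  rw [h3, orderOf_one] at hx0
  exact hp.ne_one hx0.symm

/-- Smaller alternating groups are involved as well. -/
theorem involves_of_le {G : Type u} [Group G] {m r : ℕ} (hmr : m ≤ r)
    (h : Cfsg.Involves (Alt r) G) : Cfsg.Involves (Alt m) G := by
  obtain ⟨K, f, hf⟩ := Involves.exists_surjective h
  obtain ⟨K', f', hf'⟩ := AltSections.exists_surjective_of_le K hmr f hf
  exact Involves.of_surjective f' hf'

end Cfsg.Agent.Lib.S4100
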