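import Cfsg.Agent.Lib.S4100.Check

/-!
Soundness of the certificates.
-/

set_option autoImplicit false

namespace Cfsg.Agent.Lib.S4100

variable {V : Type*} [AddCommGroup V]

theorem Cert.sound (C : Cert) (hC : C.Ok) (ρ : Alt C.n →* AddMonoid.End V)
    (hp : ∀ v : V, C.p • v = 0) (hamb : ∀ t ∈ C.amb, ∃ g : Alt C.n, Rep t.g g)
    (hgrp : ∀ G ∈ C.grps, ZeroC ρ (G.tabs.map fun t => (t.g, t.z)))
    (hsat : ∀ s ∈ C.sats, ZeroC ρ (s.tabs.map fun tc => (tc.1.g, tc.1.z))) :
    ZeroC ρ C.lg := by
  classical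
  have hd := hC.head
  simp only [chkHead, Bool.and_eq_true, Nat.ble_eq, Nat.blt_eq] at hd
  obtain ⟨hn, h8, hp1, hN, hnl, -, hR0, hL0, hLam0⟩ := hd
  have hp0 : 0 < C.p := by omega
  have hLam0' := Nat.eq_of_beq_eq_true hLam0
  intro v hv
  -- elements of the stabiliser
  have hLel : ∀ j, j < C.nl → ∃ g : Alt C.n, Rep (code C.Lc j) g ∧ ρ g v = fld C.Lam j • v := by
    intro j
    induction j using Nat.strong_induction_on with
    | _ j ih =>
      intro hj
      by_cases hj0 : j = 0
      · subst hj0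
        exact ⟨1, isId_sound hn hL0, by rw [hLam0', one_smul]; simp⟩
      · have h := allN_sound hC.lT hj
        simp only [Bool.or_eq_true, Bool.and_eq_true, Nat.blt_eq, op_add, op_mul, op_div, op_mod] at h
        rcases h with h | ⟨hq, hk, hc, hl⟩
        · exact absurd (Nat.eq_of_beq_eq_true h) hj0
        · obtain ⟨l, hl1, hl2⟩ := ih _ hq (hq.trans hj)
          obtain ⟨g, hg1, hg2⟩ := hv _ (getL_mem (0, 0) C.lg _ hk)
          refine ⟨g * l, isComp_sound hn hg1 hl1 hc, ?_⟩
          rw [Nat.eq_of_beq_eq_true hl, mod_smul' hp, map_mul]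
          show ρ g (ρ l v) = _
          rw [hl2, map_nsmul, hg2, ← mul_smul, mul_comm]
  -- coset representatives
  have hRel : ∀ i, i < C.N → ∃ r : Alt C.n, Rep (code C.R i) r := by
    intro i
    induction i using Nat.strong_induction_on with
    | _ i ih =>
      intro hi
      by_cases hi0 : i = 0
      · subst hi0
        exact ⟨1, isId_sound hn hR0⟩
      · have h := allN_sound hC.rT hi
        simp only [Bool.or_eq_true, Bool.and_eq_true, Nat.blt_eq, op_add, op_mul, op_div, op_mod] at h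
        rcases h with h | ⟨hq, hk, hc⟩
        · exact absurd (Nat.eq_of_beq_eq_true h) hi0
        · obtain ⟨r, hr⟩ := ih _ hq (hq.trans hi)
          obtain ⟨g, hg⟩ := hamb _ (getL_mem (⟨0, 0, 0, 0⟩ : Tab) C.amb _ hk)
          exact ⟨g * r, isComp_sound hn hg hr hc⟩
  let rr : ℕ → Alt C.n := fun i =>
    if h : ∃ r : Alt C.n, Rep (code C.R i) r then h.choose else 1
  have hrr : ∀ i, i < C.N → Rep (code C.R i) (rr i) := fun i hi => by
    simp only [rr, dif_pos (hRel i hi)]
    exact (hRel i hi).choose_spec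
  let w : ℕ → V := fun i => ρ (rr i) v
  have hw0 : w 0 = v := by
    simp only [w, Rep.unique (hrr 0 hN) (isId_sound hn hR0), map_one]
    rfl
  -- tables
  have htab : ∀ t : Tab, chkTab C t = true →
      ∃ g : Alt C.n, Rep t.g g ∧ GoodTab ρ w C.N t.T g := by
    intro t ht
    simp only [chkTab, Bool.and_eq_true, op_add, op_mul, op_div, op_mod] at ht
    obtain ⟨h0, hall⟩ := ht
    have hrow : ∀ i, i < C.N → fld t.T i / 8 < C.N ∧ fld t.LI i < C.nl ∧
        compOK C.n t.g (code C.R i) (code C.R (fld t.T i / 8)) (code C.Lc (fld t.LI i)) = true ∧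
        fld C.Lam (fld t.LI i) = fld t.T i % 8 := by
      intro i hi
      have h := allN_sound hall hi
      simp only [Bool.and_eq_true, Nat.blt_eq, op_add, op_mul, op_div, op_mod] at h
      exact ⟨h.1, h.2.1, h.2.2.1, Nat.eq_of_beq_eq_true h.2.2.2⟩
    obtain ⟨a1, a2, -, -⟩ := hrow 0 hN
    obtain ⟨l0, hl0, -⟩ := hLel _ a2
    have hg := isComp_sound hn (hrr _ a1) hl0 h0
    refine ⟨_, hg, fun i hi => ?_⟩
    obtain ⟨b1, b2, b3, b4⟩ := hrow i hi
    refine ⟨b1, ?_⟩
    obtain ⟨l, hl, hlv⟩ := hLel _ b2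
    have heq := compOK_sound hn hg (hrr i hi) (hrr _ b1) hl b3
    show (ρ _ * ρ (rr i)) v = _
    rw [← map_mul, heq, map_mul]
    show ρ _ (ρ l v) = _
    rw [hlv, map_nsmul, b4]
  -- composition tables
  have hchain : ∀ (Hs : List (ℕ × ℕ)) (prev : ℕ), chkChain C Hs prev = true →
      (∃ g, GoodTab ρ w C.N prev g) → ∀ h ∈ Hs, ∃ g, GoodTab ρ w C.N h.1 g := by
    intro Hs
    induction Hs with
    | nil => simp
    | cons hk Hs ih =>
      intro prev hc ⟨g', hg'⟩ h hh
      simp only [chkChain, Bool.and_eq_true, Nat.blt_eq] at hc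
      obtain ⟨hk2, hcomp, hrest⟩ := hc
      obtain ⟨g, -, hg⟩ := htab _ (allL_sound hC.ambT _ (getL_mem (⟨0, 0, 0, 0⟩ : Tab) C.amb _ hk2))
      have hnew : GoodTab ρ w C.N hk.1 (g * g') := by
        intro i hi
        have h := Nat.eq_of_beq_eq_true (allN_sound hcomp hi)
        simp only [op_add, op_mul, op_div, op_mod] at h
        obtain ⟨c1, c2⟩ := hg' i hi
        obtain ⟨d1, d2⟩ := hg _ c1
        have hlt : fld prev i % 8 *
            (fld (getL ⟨0, 0, 0, 0⟩ C.amb hk.2).T (fld prev i / 8) % 8) % C.p < 8 :=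
          lt_of_lt_of_le (Nat.mod_lt _ hp0) h8
        refine ⟨by omega, ?_⟩
        rw [map_mul]
        show ρ g (ρ g' (w i)) = _
        rw [c2, map_nsmul, d2, ← mul_smul, h,
          show ∀ a b : ℕ, b < 8 → (a * 8 + b) % 8 = b from fun a b hb => by omega,
          show ∀ a b : ℕ, b < 8 → (a * 8 + b) / 8 = a from fun a b hb => by omega, mod_smul' hp]
        all_goals exact hlt
      rcases List.mem_cons.1 hh with rfl | hh
      · exact ⟨_, hnew⟩
      · exact ih hk.1 hrest ⟨_, hnew⟩ h hh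
  have hH : ∀ h ∈ hList C, ∃ g, GoodTab ρ w C.N h g := by
    have hHh := hC.hT
    simp only [chkH, Bool.and_eq_true] at hHh
    have hid : GoodTab ρ w C.N C.H0 1 := by
      intro i hi
      have h := Nat.eq_of_beq_eq_true (allN_sound hHh.1 hi)
      simp only [op_add, op_mul, op_div, op_mod] at h
      rw [h]
      refine ⟨by omega, ?_⟩
      rw [show (i * 8 + 1) % 8 = 1 by omega, show (i * 8 + 1) / 8 = i by omega, one_smul, map_one]
      rfl
    intro h hh
    rcases List.mem_cons.1 hh with rfl | hh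
    · exact ⟨1, hid⟩
    · obtain ⟨x, hx, rfl⟩ := List.mem_map.1 hh
      exact hchain C.Hs C.H0 hHh.2 ⟨1, hid⟩ x hx
  -- orbit vectors
  have hbase : ∀ o ∈ baseZ C, IsZV w C.N o := by
    intro o ho
    obtain ⟨G, hG, hoG⟩ := List.mem_flatMap.1 ho
    have h := allL_sound (allL_sound hC.orbT G hG) o hoG
    simp only [chkOrb, Bool.and_eq_true, Nat.blt_eq] at h
    obtain ⟨hidx, hlen, hall⟩ := h
    have hu := idxOK_sound hidx
    refine ⟨hu, hgrp G hG _ ?_⟩
    intro cz hcz
    obtain ⟨t, ht, rfl⟩ := List.mem_map.1 hcz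
    obtain ⟨g, hg1, hg2⟩ := htab t (allL_sound (allL_sound hC.grpT G hG) t ht)
    refine ⟨g, hg1, ?_⟩
    have hm := mapT_idx h8 hp0 hg2 hu
    have hs : ∀ e ∈ scl C.p t.z (unp o), e / 8 < C.N := by
      intro e he
      simp only [scl_def, List.mem_map] at he
      obtain ⟨b, hb, rfl⟩ := he
      have := hu b hb
      have hlt : b % 8 * t.z % C.p < 8 := lt_of_lt_of_le (Nat.mod_lt _ hp0) h8
      omega
    rw [← ev_mapT h8 hp0 hp hg2 hu, ← ev_scl h8 hp0 hp, ev_eq_sum w C.N _ hm,
      ev_eq_sum w C.N _ hs]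
    refine Finset.sum_congr rfl fun i hi => ?_
    have heq := Nat.eq_of_beq_eq_true (allL_sound hall t ht)
    rw [← digit_addTo hm (by simpa [mapT] using hlen) (Finset.mem_range.1 hi),
      ← digit_addTo hs (by simpa [scl] using hlen) (Finset.mem_range.1 hi), heq]
  -- translated vectors
  have hmov : ∀ o ∈ baseZ C ++ movZ C, IsZV w C.N o := by
    intro o ho
    rcases List.mem_append.1 ho with ho | ho
    · exact hbase o ho
    · obtain ⟨q, hq, rfl⟩ := List.mem_map.1 ho
      have h := allL_sound hC.movC q hq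
      simp only [Bool.and_eq_true, Nat.blt_eq] at h
      obtain ⟨hh, hoq, hidx, hul, hvl, heq⟩ := h
      obtain ⟨g, hg⟩ := hH _ (getL_mem 0 (hList C) _ hh)
      obtain ⟨hb1, hb2⟩ := hbase _ (getL_mem (0, 0) (baseZ C) _ hoq)
      have hv := idxOK_sound hidx
      have hu := mapT_idx h8 hp0 hg hb1
      refine ⟨hv, ?_⟩
      rw [← map_zero (ρ g), ← hb2, ← ev_mapT h8 hp0 hp hg hb1, ev_eq_sum w C.N _ hv,
        ev_eq_sum w C.N _ hu]
      refine Finset.sum_congr rfl fun i hi => ?_
      rw [← digit_addTo hv hvl (Finset.mem_range.1 hi),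
        ← digit_addTo hu hul (Finset.mem_range.1 hi), Nat.eq_of_beq_eq_true heq]
  -- saturation vectors
  have hsats : ∀ (ss : List Sat) (Z : List (ℕ × ℕ)), (∀ s ∈ ss, s ∈ C.sats) →
      (∀ o ∈ Z, IsZV w C.N o) → chkSats C ss Z = true →
      ∀ o ∈ Z ++ ss.map Sat.vec, IsZV w C.N o := by
    intro ss
    induction ss with
    | nil => intro Z _ hZ _; simpa using hZ
    | cons s ss ih =>
      intro Z hss hZ hc
      simp only [chkSats, Bool.and_eq_true] at hc
      obtain ⟨hidx, htabs, hrest⟩ := hc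
      have hu := idxOK_sound hidx
      have hsC := hss s (List.mem_cons_self ..)
      have hzs : IsZV w C.N s.vec := by
        refine ⟨hu, hsat s hsC _ ?_⟩
        intro cz hcz
        obtain ⟨tc, htc, rfl⟩ := List.mem_map.1 hcz
        obtain ⟨g, hg1, hg2⟩ := htab tc.1 (allL_sound (allL_sound hC.satT s hsC) tc htc)
        refine ⟨g, hg1, ?_⟩
        have h := allL_sound htabs tc htc
        simp only [chkSatTab, Bool.and_eq_true, Nat.blt_eq] at h
        obtain ⟨-, hlen, hzero⟩ := h
        have hs : ∀ e ∈ scl C.p (C.p - tc.1.z % C.p) (unp s.vec), e / 8 < C.N := by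
          intro e he
          simp only [scl_def, List.mem_map] at he
          obtain ⟨b, hb, rfl⟩ := he
          have := hu b hb
          have hlt : b % 8 * (C.p - tc.1.z % C.p) % C.p < 8 :=
            lt_of_lt_of_le (Nat.mod_lt _ hp0) h8
          omega
        have hnil : Packs w C.N 0 0 (0 : V) := ⟨[], by simp, by simp, rfl, by simp [ev]⟩
        have hX := accZ_packs h8 hp0 hp hH Z hZ tc.2 _ _ _
          ((hnil.add hs).add (mapT_idx h8 hp0 hg2 hu))
        have h0 := hX.zero_of_zeroMod hp (by simp [mapT, scl]; omega) hzero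
        rw [ev_mapT h8 hp0 hp hg2 hu, ev_scl h8 hp0 hp, add_zero] at h0
        have hz : (C.p - tc.1.z % C.p + tc.1.z) • ev w (unp s.vec) = 0 := by
          have : (C.p - tc.1.z % C.p + tc.1.z) % C.p = 0 := by
            have h1 := Nat.mod_add_div tc.1.z C.p
            have h2 := Nat.mod_lt tc.1.z hp0
            have : C.p - tc.1.z % C.p + tc.1.z = C.p * (tc.1.z / C.p + 1) := by
              rw [mul_add, mul_one]; omega
            rw [this, Nat.mul_mod_right]
          rw [← mod_smul' hp, this, zero_smul]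
        rw [add_smul] at hz
        rw [eq_neg_of_add_eq_zero_left h0]
        exact (eq_neg_of_add_eq_zero_right hz).symm
      rw [List.map_cons, List.append_cons]
      exact ih (Z ++ [s.vec]) (fun x hx => hss x (List.mem_cons_of_mem _ hx))
        (fun o ho => by
          rcases List.mem_append.1 ho with ho | ho
          · exact hZ o ho
          · rw [List.mem_singleton.1 ho]; exact hzs) hrest
  have hall := hsats C.sats (baseZ C ++ movZ C) (fun _ h => h) hmov hC.satC
  -- final combination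
  have hf := hC.finC
  simp only [chkFin, Bool.and_eq_true, Nat.blt_eq] at hf
  have hnil : Packs w C.N 0 0 (0 : V) := ⟨[], by simp, by simp, rfl, by simp [ev]⟩
  have hs1 : ∀ e ∈ [C.p - 1], e / 8 < C.N := by
    intro e he
    rw [List.mem_singleton.1 he, Nat.div_eq_of_lt (by omega)]
    exact hN
  have hfin := (accZ_packs h8 hp0 hp hH (allZ C) hall C.fin _ _ _ (hnil.add hs1)).zero_of_zeroMod hp
    (by simp; omega) hf.2
  rw [add_zero] at hfin
  simp only [ev, List.map_cons, List.map_nil, List.sum_cons, List.sum_nil, add_zero] at hfin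
  rw [Nat.mod_eq_of_lt (by omega : C.p - 1 < 8), Nat.div_eq_of_lt (by omega : C.p - 1 < 8), hw0]
    at hfin
  have := hp v
  rw [show C.p = C.p - 1 + 1 by omega, add_smul, hfin, zero_add, one_smul] at this
  exact this

end Cfsg.Agent.Lib.S4100
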